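import Cfsg.Agent.Lib.Recog.SolvTrans.Steps
import Cfsg.Agent.Lib.Perm.Zas25.RegularSemilinear
import Cfsg.Agent.S2904

/-!
Solvable transitive linear groups: semilinear or one of six exceptional orders.
-/

set_option autoImplicit false
set_option linter.unusedSectionVars false
set_option linter.style.haveILetI false

namespace Cfsg.Lib.Recog.SolvTrans

variable {q : ℕ} [Fact q.Prime] {V : Type*} [AddCommGroup V] [Module (ZMod q) V] [Finite V] [Nontrivial V]
  {G : Type*} [Group G] [Finite G] {ι : G →* Module.End (ZMod q) V}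

theorem card_range_mulAut_dvd_six {M : Type*} [Group M] [Finite M] (h4 : Nat.card M = 4)
    {H : Type*} [Group H] (φ : H →* MulAut M) : Nat.card φ.range ∣ 6 := by
  classical
  let ψ : MulAut M →* Equiv.Perm {x : M // x ≠ 1} :=
    { toFun := fun f => f.toEquiv.subtypeEquiv (fun a => (map_ne_one_iff f f.injective).symm)
      map_one' := Equiv.ext fun a => Subtype.ext rfl
      map_mul' := fun f g => Equiv.ext fun a => Subtype.ext rfl }
  have hinj : Function.Injective ψ := fun f g e => MulEquiv.ext fun a => by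
    rcases eq_or_ne a 1 with rfl | h
    · rw [map_one, map_one]
    · exact congrArg Subtype.val (Equiv.congr_fun e ⟨a, h⟩)
  have h3 : Nat.card {x : M // x ≠ 1} = 3 := by
    have := Set.ncard_compl ({1} : Set M)
    rw [Set.ncard_singleton, h4] at this
    exact this
  have := Subgroup.card_dvd_of_injective (ψ.comp φ.range.subtype) (hinj.comp φ.range.subtype_injective)
  rwa [Nat.card_perm, h3] at this

theorem dim_two [Group.IsSolvable G] (hι : Function.Injective ι) (htrans : Trans ι) (hns : NotSL ι)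
    (h2 : Module.finrank (ZMod q) V = 2) : q ∈ ({3, 5, 7, 11, 23} : Set ℕ) := by
  classical
  have hq : q.Prime := Fact.out
  haveI : Nontrivial (Module.End (ZMod q) V) := inferInstance
  have halg : Function.Injective (algebraMap (ZMod q) (Module.End (ZMod q) V)) :=
    FaithfulSMul.algebraMap_injective _ _
  -- abelian normal subgroups consist of scalars
  have hscal : ∀ A : Subgroup G, A.Normal → (∀ a ∈ A, ∀ b ∈ A, a * b = b * a) →
      ∀ a ∈ A, ∃ c, algebraMap (ZMod q) (Module.End (ZMod q) V) c = ι a := by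
    intro A hA hAc a ha
    obtain ⟨hf, hlt⟩ := hns.finrank_lt hι htrans A (hA' := hA) hAc
    haveI : Nontrivial (alg ι A) := ⟨⟨1, 0, fun e => one_ne_zero (congrArg Subtype.val e : (1 : Module.End (ZMod q) V) = 0)⟩⟩
    have h1 : alg ι A = ⊥ := Subalgebra.eq_bot_of_finrank_one (by
      have : 0 < Module.finrank (ZMod q) (alg ι A) := Module.finrank_pos
      omega)
    exact Algebra.mem_bot.1 (h1 ▸ mem_alg ha)
  have hcent : ∀ A : Subgroup G, A.Normal → (∀ a ∈ A, ∀ b ∈ A, a * b = b * a) → A ≤ Subgroup.center G := by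
    intro A hA hAc a ha
    obtain ⟨c, hc⟩ := hscal A hA hAc a ha
    refine Subgroup.mem_center_iff.2 fun g => hι ?_
    rw [map_mul, map_mul, ← hc, Algebra.commutes]
  set Z := Subgroup.center G
  have hZc : ∀ z ∈ Z, ∀ g : G, z * g = g * z := fun z hz g => (Subgroup.mem_center_iff.1 hz g).symm
  choose c hc using fun z : Z => hscal Z inferInstance (fun a ha b _ => hZc a ha b) z.1 z.2
  let χ : Z →* ZMod q :=
    { toFun := c
      map_one' := halg (by rw [hc, map_one]; exact map_one ι)
      map_mul' := fun a b => halg (by rw [hc, map_mul, hc, hc]; exact map_mul ι _ _) }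
  have hχ : Function.Injective χ := fun a b e => Subtype.ext (hι (by rw [← hc a, ← hc b]; exact congrArg _ e))
  have hZdvd : Nat.card Z ∣ q - 1 := by
    have := Subgroup.card_dvd_of_injective χ.toHomUnits (fun a b e => hχ (congrArg Units.val e))
    rwa [Nat.card_eq_fintype_card (α := (ZMod q)ˣ), ZMod.card_units] at this
  have hZle : Nat.card Z ≤ q - 1 := Nat.le_of_dvd (by have := hq.two_le; omega) hZdvd
  have hGdvd := dvd_card htrans
  rw [h2] at hGdvd
  have hq2 : (q - 1) * (q + 1) = q ^ 2 - 1 := by rw [mul_comm, ← Nat.sq_sub_sq, one_pow]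
  rw [← hq2] at hGdvd
  have hZtop : Z < ⊤ := by
    refine lt_top_iff_ne_top.2 fun h => ?_
    have h1 := Nat.le_of_dvd Nat.card_pos hGdvd
    have h3 : Nat.card G ≤ q - 1 := by
      rw [← Subgroup.card_top (G := G), ← h]; exact hZle
    have := hq.two_le
    nlinarith [show 1 ≤ q - 1 by omega]
  obtain ⟨N, s, m, hNn, hs, hZN, -, hsZ, hctr, hpow, hcl, hm, hidx, hle⟩ :=
    class_two (L := ⊤) hι hZtop (fun z hz g _ => hZc z hz g)
      (hns.finrank_lt hι htrans Z (fun a ha b _ => hZc a ha b)).1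
      (fun B hB _ _ hBc => hcent B hB hBc)
  haveI := hNn
  rw [h2] at hle
  have hs2 : s = 2 := le_antisymm ((Nat.le_self_pow hm.ne' s).trans hle) hs.two_le
  subst hs2
  have hm1 : m = 1 := le_antisymm ((Nat.pow_le_pow_iff_right one_lt_two).1 (by simpa using hle)) hm
  subst hm1
  have hidx4 : (Subgroup.center N).index = 4 := by rw [hidx]; norm_num
  have hodd : q ≠ 2 := by
    rintro rfl
    have h1 := Nat.le_of_dvd Nat.card_pos hsZ
    omega
  -- the centraliser is the centre
  have hCN : ∀ g : G, (∀ a ∈ N, a * g = g * a) → g ∈ Z := by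
    intro g hg
    haveI : Fintype (N ⧸ Subgroup.center N) := Fintype.ofFinite _
    have hcard : Fintype.card (N ⧸ Subgroup.center N) = Module.finrank (ZMod q) (Module.End (ZMod q) V) := by
      rw [Module.finrank_linearMap, h2, ← Nat.card_eq_fintype_card, ← Subgroup.index_eq_card, hidx4]
    have hspan := (indep_cosets (ι := ι) hι (hctr.symm ▸ (hns.finrank_lt hι htrans Z (fun a ha b _ => hZc a ha b)).1)
      (fun a ha b hb => hctr.symm ▸ hcl a ha b hb)).span_eq_top_of_card_eq_finrank hcard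
    have hall : ∀ φ : Module.End (ZMod q) V, Commute (ι g) φ := by
      intro φ
      have hφ : φ ∈ Submodule.span (ZMod q)
          (Set.range fun x : N ⧸ Subgroup.center N => ι (x.out : N).1) := hspan ▸ Submodule.mem_top
      induction hφ using Submodule.span_induction with
      | mem x hx =>
        obtain ⟨y, rfl⟩ := hx
        rw [commute_iff_eq, ← map_mul, ← map_mul, hg _ (y.out : N).2]
      | zero => exact Commute.zero_right _
      | add x y _ _ hx hy => exact hx.add_right hy
      | smul a x _ hx => exact hx.smul_right a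
    exact Subgroup.mem_center_iff.2 fun h => hι (by rw [map_mul, map_mul]; exact (hall (ι h)).eq.symm)
  set π := QuotientGroup.mk' Z with hπdef
  set M := N.map π with hMdef
  haveI : M.Normal := Subgroup.Normal.map hNn _ (QuotientGroup.mk'_surjective Z)
  have hM4 : Nat.card M = 4 := by
    have hker : (π.comp N.subtype).ker = Subgroup.center N := by
      ext a
      rw [MonoidHom.mem_ker, MonoidHom.comp_apply, QuotientGroup.mk'_apply, QuotientGroup.eq_one_iff, ← hctr,
        ctr_eq_map]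
      exact Subgroup.mem_map_iff_mem N.subtype_injective
    rw [← hidx4, ← hker, Subgroup.index_ker, MonoidHom.range_comp, Subgroup.range_subtype]
  let φ : G →* MulAut M := MulAut.conjNormal.comp π
  set K := φ.ker
  have hK : ∀ g ∈ K, ∀ a ∈ N, g * a * g⁻¹ * a⁻¹ ∈ Z := by
    intro g hg a ha
    have := congrArg Subtype.val (DFunLike.congr_fun (MonoidHom.mem_ker.1 hg) ⟨π a, a, ha, rfl⟩)
    change π g * π a * (π g)⁻¹ = π a at this
    refine (QuotientGroup.eq_one_iff _).1 ?_
    show π (g * a * g⁻¹ * a⁻¹) = 1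
    rw [map_mul, map_mul, map_mul, map_inv, map_inv, this, mul_inv_cancel]
  let T : Subgroup Z :=
    { carrier := {z | z ^ 2 = 1}
      one_mem' := one_pow 2
      mul_mem' := fun {a b} ha hb => by
        show (a * b) ^ 2 = 1
        rw [(show Commute a b from Subtype.ext (hZc _ a.2 _)).mul_pow, ha, hb, one_mul]
      inv_mem' := fun {a} ha => by show a⁻¹ ^ 2 = 1; rw [inv_pow, ha, inv_one] }
  have hT : Nat.card T ∣ 2 := by
    have hle : Nat.card T ≤ 2 := by
      refine le_trans (Nat.card_le_card_of_injective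
        (fun t : T => (⟨χ t.1, ?_⟩ : ({1, -1} : Set (ZMod q)))) (fun a b e => Subtype.ext (hχ (congrArg Subtype.val e)))) ?_
      · have : χ t.1 * χ t.1 = 1 := by rw [← map_mul, ← sq, t.2, map_one]
        exact mul_self_eq_one_iff.1 this
      · rw [Nat.card_coe_set_eq]
        exact (Set.ncard_insert_le _ _).trans (by rw [Set.ncard_singleton])
    have : 0 < Nat.card T := Nat.card_pos
    interval_cases Nat.card T <;> norm_num
  have hcomm : ∀ g ∈ K, ∀ a ∈ N, ∀ h : g * a * g⁻¹ * a⁻¹ ∈ Z,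
      (⟨g * a * g⁻¹ * a⁻¹, h⟩ : Z) ∈ T := by
    intro g hg a ha h
    refine Subtype.ext ?_
    show (g * a * g⁻¹ * a⁻¹) ^ 2 = 1
    have h1 : (g * a * g⁻¹ * a⁻¹ * a) ^ 2 = a ^ 2 := by
      rw [inv_mul_cancel_right, conj_pow, ← hZc _ (hpow a ha) g, mul_inv_cancel_right]
    rwa [(show Commute (g * a * g⁻¹ * a⁻¹) a from hZc _ h a).mul_pow, mul_eq_right] at h1
  obtain ⟨a, haN, ha1⟩ : ∃ a ∈ N, π a ≠ 1 := by
    by_contra h
    push Not at h
    have : M = ⊥ := by
      rw [eq_bot_iff]; rintro _ ⟨a, ha, rfl⟩; exact Subgroup.mem_bot.2 (h a ha)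
    rw [this, Subgroup.card_bot] at hM4
    omega
  obtain ⟨b, hbN, hb1, hba⟩ : ∃ b ∈ N, π b ≠ 1 ∧ π b ≠ π a := by
    by_contra h
    push Not at h
    have hsub : (M : Set (G ⧸ Z)) ⊆ {1, π a} := by
      rintro _ ⟨b, hb, rfl⟩
      by_cases e : π b = 1
      · exact Or.inl e
      · exact Or.inr (h b hb e)
    have := (Set.ncard_le_ncard hsub (Set.toFinite _)).trans (Set.ncard_insert_le _ _)
    rw [← Nat.card_coe_set_eq, Set.ncard_singleton] at this
    change Nat.card M ≤ 2 at this
    omega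
  let ψ : K →* T × T :=
    { toFun := fun g => (⟨⟨_, hK g g.2 a haN⟩, hcomm g g.2 a haN _⟩, ⟨⟨_, hK g g.2 b hbN⟩, hcomm g g.2 b hbN _⟩)
      map_one' := by
        refine Prod.ext (Subtype.ext (Subtype.ext ?_)) (Subtype.ext (Subtype.ext ?_)) <;> simp
      map_mul' := fun g h => by
        have key : ∀ a ∈ N, g.1 * h.1 * a * (g.1 * h.1)⁻¹ * a⁻¹ =
            g.1 * a * g.1⁻¹ * a⁻¹ * (h.1 * a * h.1⁻¹ * a⁻¹) := by
          intro a ha
          calc g.1 * h.1 * a * (g.1 * h.1)⁻¹ * a⁻¹ = g.1 * (h.1 * a * h.1⁻¹ * a⁻¹) * (a * g.1⁻¹ * a⁻¹) := by group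
            _ = h.1 * a * h.1⁻¹ * a⁻¹ * g.1 * (a * g.1⁻¹ * a⁻¹) := by rw [← hZc _ (hK h.1 h.2 a ha) g.1]
            _ = h.1 * a * h.1⁻¹ * a⁻¹ * (g.1 * a * g.1⁻¹ * a⁻¹) := by group
            _ = _ := hZc _ (hK h.1 h.2 a ha) _
        exact Prod.ext (Subtype.ext (Subtype.ext (key a haN))) (Subtype.ext (Subtype.ext (key b hbN))) }
  have hkerψ : ∀ g ∈ ψ.ker, (g : K).1 ∈ Z := by
    intro g hg
    rw [MonoidHom.mem_ker] at hg
    have hga : g.1 * a * g.1⁻¹ * a⁻¹ = 1 := congrArg (fun p : T × T => ((p.1 : Z) : G)) hg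
    have hgb : g.1 * b * g.1⁻¹ * b⁻¹ = 1 := congrArg (fun p : T × T => ((p.2 : Z) : G)) hg
    set E := N ⊓ Subgroup.centralizer {g.1} with hE
    have hmem : ∀ x ∈ N, g.1 * x * g.1⁻¹ * x⁻¹ = 1 → π x ∈ E.map π := fun x hx e =>
      ⟨x, ⟨hx, Subgroup.mem_centralizer_singleton_iff.2 (eq_mul_inv_iff_mul_eq.1 (mul_inv_eq_one.1 e).symm)⟩, rfl⟩
    have hEM : E.map π = M := by
      refine Subgroup.eq_of_le_of_card_ge (Subgroup.map_mono inf_le_left) ?_
      have h3 : 3 ≤ Nat.card (E.map π) := by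
        have hsub : ({1, π a, π b} : Set (G ⧸ Z)) ⊆ (E.map π : Set (G ⧸ Z)) := by
          rintro x (rfl | rfl | rfl)
          · exact one_mem _
          · exact hmem a haN hga
          · exact hmem b hbN hgb
        have := Set.ncard_le_ncard hsub (Set.toFinite _)
        rw [Set.ncard_insert_of_notMem (by simp [Ne.symm ha1, Ne.symm hb1]), Set.ncard_pair (Ne.symm hba),
          ← Nat.card_coe_set_eq] at this
        exact this
      have hd : Nat.card (E.map π) ∣ 4 := hM4 ▸ Subgroup.card_dvd_of_le (Subgroup.map_mono inf_le_left)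
      rw [hM4]
      have h4 := Nat.le_of_dvd (by norm_num) hd
      by_contra hlt
      rw [show Nat.card (E.map π) = 3 by omega] at hd
      norm_num at hd
    refine hCN _ fun x hx => ?_
    obtain ⟨e, he, hex⟩ : π x ∈ E.map π := hEM ▸ Subgroup.mem_map_of_mem π hx
    have hz : e⁻¹ * x ∈ Z := QuotientGroup.eq.1 hex
    have hce : e * g.1 = g.1 * e := Subgroup.mem_centralizer_singleton_iff.1 he.2
    calc x * g.1 = e * ((e⁻¹ * x) * g.1) := by group
      _ = e * g.1 * (e⁻¹ * x) := by rw [hZc _ hz, mul_assoc]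
      _ = g.1 * x := by rw [hce]; group
  have hKdvd : Nat.card K ∣ Nat.card Z * 4 := by
    rw [← ψ.ker.card_mul_index, Subgroup.index_ker]
    refine Nat.mul_dvd_mul (Subgroup.card_dvd_of_injective
      ((K.subtype.comp ψ.ker.subtype).codRestrict Z fun g => hkerψ g.1 g.2)
      fun g h e => Subtype.ext (Subtype.ext (congrArg (fun z : Z => (z : G)) e))) ?_
    refine (Subgroup.card_subgroup_dvd_card _).trans ?_
    rw [Nat.card_prod]
    exact Nat.mul_dvd_mul hT hT
  have hG : Nat.card G ∣ (q - 1) * 24 := by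
    rw [← φ.ker.card_mul_index, Subgroup.index_ker]
    exact (Nat.mul_dvd_mul hKdvd (card_range_mulAut_dvd_six hM4 φ)).trans
      (by rw [mul_assoc]; exact Nat.mul_dvd_mul hZdvd (by norm_num))
  have hq1 : q + 1 ∣ 24 :=
    Nat.dvd_of_mul_dvd_mul_left (by have := hq.two_le; omega) (hGdvd.trans hG)
  have hq23 : q ≤ 23 := by have := Nat.le_of_dvd (by norm_num) hq1; omega
  have h2le := hq.two_le
  clear * - hq hodd hq1 hq23 h2le
  interval_cases q <;> norm_num at * <;> simp_all

theorem card_dvd_gl (hι : Function.Injective ι) {n : ℕ} (hn : Module.finrank (ZMod q) V = n) :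
    Nat.card G ∣ ∏ i : Fin n, (q ^ n - q ^ (i : ℕ)) := by
  classical
  let b := Module.finBasisOfFinrankEq (ZMod q) V hn
  let f : G →* Matrix.GeneralLinearGroup (Fin n) (ZMod q) :=
    (Units.map (LinearMap.toMatrixAlgEquiv b).toMonoidHom).comp ι.toHomUnits
  have hf : Function.Injective f := fun g h e =>
    hι ((LinearMap.toMatrixAlgEquiv b).injective (congrArg Units.val e))
  have := Subgroup.card_dvd_of_injective f hf
  rwa [Matrix.card_GL_field, ZMod.card] at this

theorem dim_six [Group.IsSolvable G] (hι : Function.Injective ι) (htrans : Trans ι) (hns : NotSL ι)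
    (hn : Module.finrank (ZMod q) V = 6) : q ≠ 2 := by
  rintro rfl
  classical
  haveI : Fact (Nat.Prime 7) := ⟨by norm_num⟩
  haveI : Finite (Module.End (ZMod 2) V) := Finite.of_injective _ DFunLike.coe_injective
  have hG63 : 63 ∣ Nat.card G := by have := dvd_card htrans; rw [hn] at this; exact this
  have hGL : Nat.card G ∣ 20158709760 := by
    refine (card_dvd_gl hι hn).trans ?_
    simp [Fin.prod_univ_succ]
  obtain ⟨x, hx⟩ := exists_prime_orderOf_dvd_card' (G := G) 7 ((by norm_num : 7 ∣ 63).trans hG63)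
  have hcore : ∀ p : ℕ, p.Prime → ∀ a ∈ Cfsg.pCore p G, x * a = a * x := by
    intro p hp a ha
    haveI : Fact p.Prime := ⟨hp⟩
    set P := Cfsg.pCore p G
    obtain ⟨j, hj⟩ := (Cfsg.Lib.Core.pCore_isPGroup p G).exists_card_eq
    have hjd : p ^ j ∣ 20158709760 := hj ▸ (Subgroup.card_subgroup_dvd_card P).trans hGL
    by_cases hp2 : p = 2
    · subst hp2
      rw [no_normal_qgroup hι htrans P (Cfsg.Lib.Core.pCore_isPGroup 2 G), Subgroup.mem_bot] at ha
      rw [ha, mul_one, one_mul]
    by_cases hj0 : j = 0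
    · have hPb : P = ⊥ := Subgroup.card_eq_one.1 (by rw [hj, hj0, pow_zero])
      rw [show a = 1 from Subgroup.mem_bot.1 (hPb.le ha), mul_one, one_mul]
    by_cases hp7 : p = 7
    · subst hp7
      set H := Subgroup.zpowers x ⊔ P
      have hz : IsPGroup 7 (Subgroup.zpowers x) :=
        IsPGroup.of_card (n := 1) (by rw [Nat.card_zpowers, hx, pow_one])
      have hH : IsPGroup 7 H := hz.to_sup_of_normal_right (Cfsg.Lib.Core.pCore_isPGroup 7 G)
      obtain ⟨e, he⟩ := hH.exists_card_eq
      have hed : 7 ^ e ∣ 20158709760 := he ▸ (Subgroup.card_subgroup_dvd_card H).trans hGL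
      have he2 : e ≤ 2 := by
        by_contra h
        exact (by norm_num : ¬ 7 ^ 3 ∣ 20158709760) ((pow_dvd_pow 7 (by omega)).trans hed)
      have hab : ∀ u v : H, u * v = v * u := by
        interval_cases e
        · haveI : Subsingleton H := Finite.card_le_one_iff_subsingleton.1 (by rw [he, pow_zero])
          exact fun u v => Subsingleton.elim _ _
        · haveI := isCyclic_of_prime_card (α := H) (p := 7) (by rw [he, pow_one])
          intro u v
          exact (IsCyclic.commGroup (α := H)).mul_comm u v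
        · exact (IsPGroup.commutative_of_card_eq_prime_sq he)
      exact congrArg Subtype.val (hab ⟨x, le_sup_left (b := P) (Subgroup.mem_zpowers x)⟩
        ⟨a, le_sup_right (a := Subgroup.zpowers x) ha⟩)
    -- counting fixed points
    have hconj : ∀ u ∈ P, x * u * x⁻¹ ∈ P := fun u hu => Subgroup.Normal.conj_mem inferInstance u hu x
    haveI : Fintype P := Fintype.ofFinite P
    let f : Function.End P := fun u => ⟨x * u.1 * x⁻¹, hconj u.1 u.2⟩
    have hfi : ∀ (i : ℕ) (u : P), ((f ^ i) u).1 = x ^ i * u.1 * (x ^ i)⁻¹ := by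
      intro i
      induction i with
      | zero => intro u; rw [pow_zero, pow_zero, one_mul, inv_one, mul_one]; rfl
      | succ i ih =>
        intro u
        rw [pow_succ']
        show x * ((f ^ i) u).1 * x⁻¹ = _
        rw [ih, pow_succ']; group
    have hf : f ^ 7 ^ 1 = 1 := funext fun u => Subtype.ext (by
      rw [hfi, pow_one, ← hx, pow_orderOf_eq_one, one_mul, inv_one, mul_one]; rfl)
    have hmod := Equiv.Perm.card_fixedPoints_modEq hf
    rw [← Nat.card_eq_fintype_card, ← Nat.card_eq_fintype_card, hj] at hmod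
    let C := P ⊓ Subgroup.centralizer {x}
    have hfix : Nat.card (Function.fixedPoints f) = Nat.card C := Nat.card_congr
      { toFun := fun u => ⟨u.1.1, u.1.2, Subgroup.mem_centralizer_singleton_iff.2
          (mul_inv_eq_iff_eq_mul.1 (congrArg Subtype.val u.2)).symm⟩
        invFun := fun u => ⟨⟨u.1, u.2.1⟩, Subtype.ext (mul_inv_eq_iff_eq_mul.2
          (Subgroup.mem_centralizer_singleton_iff.1 u.2.2).symm)⟩
        left_inv := fun u => rfl
        right_inv := fun u => rfl }
    obtain ⟨i, hi⟩ := ((Cfsg.Lib.Core.pCore_isPGroup p G).to_le (inf_le_left : C ≤ P)).exists_card_eq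
    rw [hfix, hi] at hmod
    have hij : i ≤ j := (Nat.pow_le_pow_iff_right hp.one_lt).1
      (hi ▸ hj ▸ Subgroup.card_le_of_le inf_le_left)
    suffices hij' : i = j by
      have hCP : C = P := Subgroup.eq_of_le_of_card_ge inf_le_left (by rw [hi, hj, hij'])
      exact (Subgroup.mem_centralizer_singleton_iff.1 (hCP.symm.le ha).2).symm
    have hp1 : p ∣ 20158709760 := (dvd_pow_self p hj0).trans hjd
    have hpmem : p = 3 ∨ p = 5 ∨ p = 31 := by
      rw [show 20158709760 = 2 ^ 15 * (3 ^ 4 * (5 * (7 ^ 2 * 31))) by norm_num] at hp1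
      have h2 := (Nat.prime_dvd_prime_iff_eq hp Nat.prime_two).1
      have h3 := (Nat.prime_dvd_prime_iff_eq hp Nat.prime_three).1
      have h5 := (Nat.prime_dvd_prime_iff_eq hp (by norm_num : Nat.Prime 5)).1
      have h7 := (Nat.prime_dvd_prime_iff_eq hp (by norm_num : Nat.Prime 7)).1
      have h31 := (Nat.prime_dvd_prime_iff_eq hp (by norm_num : Nat.Prime 31)).1
      rcases hp.dvd_mul.1 hp1 with h | h
      · exact absurd (h2 (hp.dvd_of_dvd_pow h)) hp2
      rcases hp.dvd_mul.1 h with h | h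
      · exact Or.inl (h3 (hp.dvd_of_dvd_pow h))
      rcases hp.dvd_mul.1 h with h | h
      · exact Or.inr (Or.inl (h5 h))
      rcases hp.dvd_mul.1 h with h | h
      · exact absurd (h7 (hp.dvd_of_dvd_pow h)) hp7
      · exact Or.inr (Or.inr (h31 h))
    rcases hpmem with rfl | rfl | rfl
    · have : j ≤ 4 := by
        by_contra h
        exact (by norm_num : ¬ 3 ^ 5 ∣ 20158709760) ((pow_dvd_pow 3 (by omega)).trans hjd)
      interval_cases j <;> interval_cases i <;> simp_all [Nat.ModEq]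
    · have : j ≤ 1 := by
        by_contra h
        exact (by norm_num : ¬ 5 ^ 2 ∣ 20158709760) ((pow_dvd_pow 5 (by omega)).trans hjd)
      interval_cases j <;> interval_cases i <;> simp_all [Nat.ModEq]
    · have : j ≤ 1 := by
        by_contra h
        exact (by norm_num : ¬ 31 ^ 2 ∣ 20158709760) ((pow_dvd_pow 31 (by omega)).trans hjd)
      interval_cases j <;> interval_cases i <;> simp_all [Nat.ModEq]
  haveI := Cfsg.Lib.Core.fittingSubgroup_normal' G
  set A := ctr (Cfsg.fittingSubgroup G) with hAdef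
  haveI : A.Normal := ctr_normal _
  have hxA : x ∈ A := mem_ctr_fitting hcore
  -- abelian normal subgroups through the element have order seven
  have hseven : ∀ B : Subgroup G, B.Normal → (∀ a ∈ B, ∀ b ∈ B, a * b = b * a) → x ∈ B → Nat.card B = 7 := by
    intro B hBn hBc hxB
    obtain ⟨hf, hlt⟩ := hns.finrank_lt hι htrans B (hA' := hBn) hBc
    letI : Field (alg ι B) := (exists_field hBc hf).toField
    let χ : B →* alg ι B :=
      { toFun := fun a => ⟨ι a.1, mem_alg a.2⟩
        map_one' := Subtype.ext (map_one ι)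
        map_mul' := fun a b => Subtype.ext (map_mul ι a.1 b.1) }
    have hinj : Function.Injective χ.toHomUnits := fun a b e =>
      Subtype.ext (hι (congrArg Subtype.val (congrArg Units.val e)))
    have hd := Subgroup.card_dvd_of_injective _ hinj
    rw [Nat.card_units, Module.natCard_eq_pow_finrank (K := ZMod 2) (V := alg ι B), Nat.card_zmod] at hd
    have h7 : 7 ∣ Nat.card B := hx ▸ Subgroup.orderOf_dvd_natCard B hxB
    rw [hn] at hlt
    have h7d := h7.trans hd
    have hdpos : 0 < Module.finrank (ZMod 2) (alg ι B) := Module.finrank_pos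
    generalize Module.finrank (ZMod 2) (alg ι B) = d at hd hlt h7d hdpos
    interval_cases d <;> norm_num at h7d
    · have := Nat.le_antisymm (Nat.le_of_dvd (by norm_num) hd) (Nat.le_of_dvd Nat.card_pos h7)
      simpa using this
  have hA7 := hseven A inferInstance (ctr_abelian _) hxA
  set L := Subgroup.centralizer (A : Set G) with hLdef
  haveI : L.Normal := Subgroup.normal_centralizer
  have hAL : A < L := by
    refine lt_of_le_of_ne (fun a ha => Subgroup.mem_centralizer_iff.2 fun b hb => ctr_abelian _ b hb a ha) ?_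
    intro e
    let φ : G →* MulAut A := MulAut.conjNormal
    have hker : φ.ker ≤ A := by
      intro g hg
      rw [e, hLdef, Subgroup.mem_centralizer_iff]
      intro b hb
      have h0 := congrArg Subtype.val (DFunLike.congr_fun (MonoidHom.mem_ker.1 hg) (⟨b, hb⟩ : A))
      have : g * b * g⁻¹ = b := h0
      exact (mul_inv_eq_iff_eq_mul.1 this).symm
    haveI : IsCyclic A := isCyclic_of_prime_card hA7
    have h6 : Nat.card φ.range ≤ 6 := by
      refine (Nat.le_of_dvd Nat.card_pos (Subgroup.card_subgroup_dvd_card _)).trans ?_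
      rw [IsCyclic.card_mulAut A, hA7, Nat.totient_prime (by norm_num : Nat.Prime 7)]
    have h1 : Nat.card φ.ker * φ.ker.index ≤ 7 * 6 := by
      rw [Subgroup.index_ker]
      exact Nat.mul_le_mul (hA7 ▸ Subgroup.card_le_of_le hker) h6
    rw [Subgroup.card_mul_index] at h1
    have := Nat.le_of_dvd Nat.card_pos hG63
    omega
  obtain ⟨N, s, m, -, hs, -, -, hsA, -, -, -, hm, -, hle⟩ :=
    class_two hι hAL (fun z hz l hl => Subgroup.mem_centralizer_iff.1 hl z hz)
      (hns.finrank_lt hι htrans A (ctr_abelian _)).1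
      (fun B hB _ hAB hBc =>
        (Subgroup.eq_of_le_of_card_ge hAB (by rw [hseven B hB hBc (hAB hxA), hA7])).ge)
  rw [hA7] at hsA
  rw [(Nat.prime_dvd_prime_iff_eq hs (by norm_num)).1 hsA, hn] at hle
  have := Nat.le_self_pow hm.ne' 7
  omega

/-- The general dimension leaves only order eighty-one. -/
theorem dim_large [Group.IsSolvable G] (hι : Function.Injective ι) (htrans : Trans ι) (hns : NotSL ι)
    (hn3 : 3 ≤ Module.finrank (ZMod q) V) (h26 : ¬ (q = 2 ∧ Module.finrank (ZMod q) V = 6)) :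
    q = 3 ∧ Module.finrank (ZMod q) V = 4 := by
  classical
  have hq : q.Prime := Fact.out
  set n := Module.finrank (ZMod q) V with hndef
  have hdiv := dvd_card htrans
  rw [← hndef] at hdiv
  -- every primitive prime divisor is one more than the dimension, and occurs once
  have hall : ∀ r, r.Prime → r ∣ q ^ n - 1 → (∀ k, 0 < k → k < n → ¬ r ∣ q ^ k - 1) →
      r = n + 1 ∧ (∃ m, n = 2 ^ m ∧ q ≠ 2) ∧ ¬ r ^ 2 ∣ q ^ n - 1 := by
    intro r hr hd hppd
    haveI : Fact r.Prime := ⟨hr⟩
    obtain ⟨x, hx⟩ := exists_prime_orderOf_dvd_card' (G := G) r (hd.trans hdiv)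
    obtain ⟨-, hrn, hm⟩ := ppd_step hι htrans hns hn3 hr hd hppd (k := 0) (y := x) (by rw [hx, zero_add, pow_one])
    refine ⟨hrn, hm, fun h2 => ?_⟩
    obtain ⟨R, hR⟩ := Sylow.exists_subgroup_card_pow_prime (G := G) r (h2.trans hdiv)
    have hRc : ∀ a ∈ R, ∀ b ∈ R, a * b = b * a := fun a ha b hb =>
      congrArg Subtype.val (IsPGroup.commutative_of_card_eq_prime_sq hR ⟨a, ha⟩ ⟨b, hb⟩)
    obtain ⟨x', hx'⟩ := exists_prime_orderOf_dvd_card' (G := R) r (hR ▸ dvd_pow_self r two_ne_zero)
    have hox' : orderOf (x'.1 : G) = r := by rw [Subgroup.orderOf_coe]; exact hx'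
    have hrq : q ≠ r := by
      intro e
      rw [← e] at hd
      have h := Nat.dvd_sub (dvd_pow_self q (finrank_pos' (q := q) (V := V)).ne') hd
      rw [Nat.sub_sub_self (Nat.one_le_pow _ _ hq.pos)] at h
      exact hq.one_lt.ne' (Nat.dvd_one.1 h)
    have hco : ¬ q ∣ Nat.card R := by
      rw [hR]; exact fun h => hrq ((Nat.prime_dvd_prime_iff_eq hq hr).1 (hq.dvd_of_dvd_pow h))
    have hf := fieldLike_of_prime hr (lt_of_ppd hr (finrank_pos' (q := q) (V := V)) hd hppd).1 hox'
      (irred_of_ppd hι hr hox' hd hppd)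
      (fun a ha => R.mul_mem (R.mul_mem x'.2 ha) (R.inv_mem x'.2)) hRc hco
    haveI : Finite (Module.End (ZMod q) V) := Finite.of_injective _ DFunLike.coe_injective
    letI : Field (alg ι R) := (exists_field hRc hf).toField
    let χ : R →* alg ι R :=
      { toFun := fun a => ⟨ι a.1, mem_alg a.2⟩
        map_one' := Subtype.ext (map_one ι)
        map_mul' := fun a b => Subtype.ext (map_mul ι a.1 b.1) }
    haveI : IsCyclic R := isCyclic_of_injective χ.toHomUnits
      (fun a b e => Subtype.ext (hι (congrArg Subtype.val (congrArg Units.val e))))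
    obtain ⟨y, hy⟩ := IsCyclic.exists_ofOrder_eq_natCard (α := R)
    have hk := ppd_step hι htrans hns hn3 hr hd hppd (k := 1) (y := y.1)
      (by rw [Subgroup.orderOf_coe, hy, hR])
    exact one_ne_zero hk.1
  obtain ⟨r, hr, hd, hppd⟩ := Cfsg.Agent.S2904.result q n hq.one_lt (by omega) h26 (fun h => by omega)
  obtain ⟨-, ⟨m, hm, hq2⟩, -⟩ := hall r hr hd hppd
  have hm2 : 2 ≤ m := by
    by_contra h
    interval_cases m <;> omega
  obtain ⟨t, rfl⟩ : ∃ t, m = t + 2 := ⟨m - 2, by omega⟩
  set h := 2 ^ (t + 1) with hhdef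
  have hnh : n = h + h := by rw [hm, hhdef, pow_succ 2 (t + 1), mul_two]
  have hsplit : q ^ n - 1 = (q ^ h + 1) * (q ^ h - 1) := by
    rw [← Nat.sq_sub_sq, one_pow, ← pow_mul, mul_two, hnh]
  -- half of the larger factor
  have hodd : Odd q := hq.odd_of_ne_two hq2
  obtain ⟨u, hu, huodd⟩ : ∃ u, q ^ h + 1 = 2 * u ∧ ¬ 2 ∣ u := by
    obtain ⟨c, hc⟩ : Odd (q ^ (2 ^ t)) := hodd.pow
    refine ⟨2 * c * c + 2 * c + 1, ?_, by rintro ⟨d, hd⟩; rw [mul_assoc 2 c c] at hd; omega⟩
    rw [hhdef, pow_succ 2 t, pow_mul, hc]; ring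
  have hdvdp : ∀ p, p.Prime → p ∣ u → p = n + 1 ∧ ¬ p ^ 2 ∣ q ^ n - 1 := by
    intro p hp hpu
    have hp2 : p ≠ 2 := fun e => huodd (e ▸ hpu)
    have hpΦ : p ∣ q ^ h + 1 := hu ▸ dvd_mul_of_dvd_right hpu 2
    have hpn : p ∣ q ^ n - 1 := hsplit ▸ dvd_mul_of_dvd_left hpΦ _
    refine (hall p hp hpn fun k hk hkn hpk => ?_).imp_right And.right
    haveI : Fact p.Prime := ⟨hp⟩
    have hiff : ∀ k, p ∣ q ^ k - 1 ↔ (q : ZMod p) ^ k = 1 := by
      intro k
      rw [← ZMod.natCast_eq_zero_iff, Nat.cast_sub (Nat.one_le_pow _ _ hq.pos),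
        Nat.cast_pow, Nat.cast_one, sub_eq_zero]
    have ho1 : orderOf (q : ZMod p) ∣ k := orderOf_dvd_of_pow_eq_one ((hiff k).1 hpk)
    have ho2 : orderOf (q : ZMod p) = n := by
      rw [hm]
      refine orderOf_eq_prime_pow (p := 2) (n := t + 1) ?_ ?_
      · rw [← hhdef]
        intro e
        have h0 : ((q ^ h + 1 : ℕ) : ZMod p) = 0 := (ZMod.natCast_eq_zero_iff _ _).2 hpΦ
        rw [Nat.cast_add, Nat.cast_pow, e, Nat.cast_one, one_add_one_eq_two] at h0
        have : ((2 : ℕ) : ZMod p) = 0 := by exact_mod_cast h0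
        exact hp2 ((Nat.prime_dvd_prime_iff_eq hp Nat.prime_two).1 ((ZMod.natCast_eq_zero_iff _ _).1 this))
      · rw [← hm]; exact (hiff n).1 hpn
    have := Nat.le_of_dvd hk (ho2 ▸ ho1)
    omega
  have hule : u ≤ n + 1 := by
    by_contra hlt
    obtain ⟨p, hp, hpu⟩ := Nat.exists_prime_and_dvd (n := u) (by omega)
    obtain ⟨hpe, hp2⟩ := hdvdp p hp hpu
    obtain ⟨w, hw⟩ := hpu
    obtain ⟨p', hp', hp'w⟩ := Nat.exists_prime_and_dvd (n := w) (fun e => by rw [hw, e, mul_one, hpe] at hlt; omega)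
    obtain ⟨hpe', -⟩ := hdvdp p' hp' (hw ▸ dvd_mul_of_dvd_right hp'w p)
    refine hp2 ?_
    rw [hsplit]
    refine dvd_mul_of_dvd_left ?_ _
    rw [hu, hw, sq]
    exact dvd_mul_of_dvd_right (Nat.mul_dvd_mul_left p (by rw [hpe, ← hpe']; exact hp'w)) 2
  have h3 : 3 ≤ q := by have := hq.two_le; omega
  have hpow : 3 ^ h ≤ q ^ h := Nat.pow_le_pow_left h3 h
  have hbig : ∀ k, 4 ≤ k → 4 * k + 2 < 3 ^ k := by
    intro k hk
    induction k, hk using Nat.le_induction with
    | base => norm_num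
    | succ k hk ih => rw [pow_succ]; omega
  have hh : h = 2 := by
    rcases t with _ | t
    · rfl
    exfalso
    have : 4 ≤ h := by
      rw [hhdef]
      exact le_trans (by norm_num : 4 ≤ 2 ^ 2) (Nat.pow_le_pow_right two_pos (by omega))
    have := hbig h this
    omega
  rw [hh] at hu hnh
  refine ⟨?_, by omega⟩
  have : q ≤ 3 := by nlinarith
  omega

/-- The classification. -/
theorem classification [Group.IsSolvable G] (ρ : G →* (V ≃ₗ[ZMod q] V)) (hρ : Function.Injective ρ)
    (htrans : ∀ v w : V, v ≠ 0 → w ≠ 0 → ∃ g : G, ρ g v = w) :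
    (∃ (F : Type) (_ : Field F) (_ : Fintype F) (e : V ≃+ F),
        ∀ g : G, ∃ (a : F) (σ : F ≃+* F), ∀ v : V, e (ρ g v) = a * σ (e v)) ∨
      Nat.card V ∈ ({9, 25, 49, 121, 529, 81} : Set ℕ) := by
  classical
  let ι : G →* Module.End (ZMod q) V :=
    { toFun := fun g => (ρ g : V →ₗ[ZMod q] V)
      map_one' := by rw [map_one]; rfl
      map_mul' := fun g h => by rw [map_mul]; rfl }
  have hι : Function.Injective ι := fun g h e => hρ (LinearEquiv.toLinearMap_injective e)
  by_cases hsl : ∃ A : Subgroup G, A.Normal ∧ (∀ a ∈ A, ∀ b ∈ A, a * b = b * a) ∧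
      ∀ W : Submodule (ZMod q) V, (∀ a ∈ A, ∀ v ∈ W, ρ a v ∈ W) → W = ⊥ ∨ W = ⊤
  · obtain ⟨A, hAn, hAc, hirr⟩ := hsl
    left
    haveI : (A.map ρ.rangeRestrict).Normal := Subgroup.Normal.map hAn _ ρ.rangeRestrict_surjective
    have hc : IsMulCommutative (A.map ρ.rangeRestrict) := ⟨⟨by
      rintro ⟨_, a, ha, rfl⟩ ⟨_, b, hb, rfl⟩
      exact Subtype.ext (by
        show ρ.rangeRestrict a * ρ.rangeRestrict b = ρ.rangeRestrict b * ρ.rangeRestrict a
        rw [← map_mul, ← map_mul, hAc a ha b hb])⟩⟩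
    obtain ⟨F, iF, iFt, e, he⟩ := Cfsg.Lib.Perm.Zas25.semilinear_of_irreducible (A.map ρ.rangeRestrict) hc
      (fun W hW => hirr W fun a ha v hv => hW (ρ.rangeRestrict a) ⟨a, ha, rfl⟩ v hv)
    exact ⟨F, iF, iFt, e, fun g => he (ρ.rangeRestrict g)⟩
  right
  have hns : NotSL ι := by
    intro A hA hAc
    by_contra h
    push Not at h
    exact hsl ⟨A, hA, hAc, fun W hW => or_iff_not_imp_left.2 (h W hW)⟩
  have htrans' : Trans ι := htrans
  rw [card_V (q := q)]
  have hpos := finrank_pos' (q := q) (V := V)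
  by_cases h1 : Module.finrank (ZMod q) V = 1
  · exfalso
    obtain ⟨W, -, hW1, hW2⟩ := hns ⊥ inferInstance (fun a ha b hb => by
      rw [Subgroup.mem_bot.1 ha, Subgroup.mem_bot.1 hb])
    have := Submodule.finrank_lt hW2
    exact hW1 (Submodule.finrank_eq_zero.1 (by omega))
  by_cases h2 : Module.finrank (ZMod q) V = 2
  · have := dim_two hι htrans' hns h2
    rw [h2]
    simp only [Set.mem_insert_iff, Set.mem_singleton_iff] at this ⊢
    rcases this with rfl | rfl | rfl | rfl | rfl <;> norm_num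
  by_cases h26 : q = 2 ∧ Module.finrank (ZMod q) V = 6
  · exact absurd h26.1 (dim_six hι htrans' hns h26.2)
  obtain ⟨hq3, hn4⟩ := dim_large hι htrans' hns (by omega) h26
  rw [hn4]
  subst hq3
  norm_num

end Cfsg.Lib.Recog.SolvTrans
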