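import Mathlib

/-!
The algebra generated by an abelian group of linear maps of order prime to the characteristic, and its behaviour
under conjugation by an element of prime order larger than the dimension or by a transitive group.
-/

set_option autoImplicit false
set_option linter.unusedSectionVars false

namespace Cfsg.Lib.Recog.SolvTrans

variable {q : ℕ} [Fact q.Prime] {V : Type*} [AddCommGroup V] [Module (ZMod q) V] [Finite V]
  {G : Type*} [Group G] [Finite G]

/-- The algebra generated by a subgroup. -/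
def alg (ι : G →* Module.End (ZMod q) V) (A : Subgroup G) : Subalgebra (ZMod q) (Module.End (ZMod q) V) :=
  Algebra.adjoin (ZMod q) (ι '' (A : Set G))

/-- All non-zero members are injective. -/
def FieldLike (K : Subalgebra (ZMod q) (Module.End (ZMod q) V)) : Prop :=
  ∀ a ∈ K, a ≠ 0 → Function.Injective a

/-- The element leaves only the trivial subspaces invariant. -/
def IrredElem (ι : G →* Module.End (ZMod q) V) (x : G) : Prop :=
  ∀ W : Submodule (ZMod q) V, (∀ v ∈ W, ι x v ∈ W) → W = ⊥ ∨ W = ⊤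

variable {ι : G →* Module.End (ZMod q) V}

theorem mem_alg {A : Subgroup G} {a : G} (ha : a ∈ A) : ι a ∈ alg ι A := Algebra.subset_adjoin ⟨a, ha, rfl⟩

theorem alg_mono {A B : Subgroup G} (h : A ≤ B) : alg ι A ≤ alg ι B :=
  Algebra.adjoin_mono (Set.image_mono h)

theorem commute_alg {A : Subgroup G} {φ : Module.End (ZMod q) V} (h : ∀ a ∈ A, Commute φ (ι a))
    {x : Module.End (ZMod q) V} (hx : x ∈ alg ι A) : Commute φ x := by
  induction hx using Algebra.adjoin_induction with
  | mem x hx => obtain ⟨a, ha, rfl⟩ := hx; exact h a ha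
  | algebraMap c => exact (Algebra.commutes c φ).symm
  | add x y _ _ hx hy => exact hx.add_right hy
  | mul x y _ _ hx hy => exact hx.mul_right hy

theorem alg_comm {A : Subgroup G} (hA : ∀ a ∈ A, ∀ b ∈ A, a * b = b * a)
    {x y : Module.End (ZMod q) V} (hx : x ∈ alg ι A) (hy : y ∈ alg ι A) : Commute x y :=
  commute_alg (fun a ha => (commute_alg (fun b hb => (show Commute (ι a) (ι b) by
    rw [commute_iff_eq, ← map_mul, ← map_mul, hA a ha b hb])) hx).symm) hy

theorem conj_mem_alg {A : Subgroup G} {g : G} (hg : ∀ a ∈ A, g * a * g⁻¹ ∈ A) {x : Module.End (ZMod q) V}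
    (hx : x ∈ alg ι A) : ι g * x * ι g⁻¹ ∈ alg ι A := by
  have h1 : ι g * ι g⁻¹ = 1 := by rw [← map_mul, mul_inv_cancel, map_one]
  have h2 : ι g⁻¹ * ι g = 1 := by rw [← map_mul, inv_mul_cancel, map_one]
  induction hx using Algebra.adjoin_induction with
  | mem x hx =>
    obtain ⟨a, ha, rfl⟩ := hx
    rw [← map_mul, ← map_mul]; exact mem_alg (hg a ha)
  | algebraMap c =>
    rw [← Algebra.commutes c (ι g), mul_assoc, h1, mul_one]; exact Subalgebra.algebraMap_mem _ c
  | add x y _ _ hx hy => rw [mul_add, add_mul]; exact add_mem hx hy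
  | mul x y _ _ hx hy =>
    rw [show ι g * (x * y) * ι g⁻¹ = (ι g * x * ι g⁻¹) * (ι g * y * ι g⁻¹) by
      simp only [mul_assoc]; rw [← mul_assoc (ι g⁻¹) (ι g), h2, one_mul]]
    exact mul_mem hx hy

theorem exists_frob {A : Subgroup G} (hA : ∀ a ∈ A, ∀ b ∈ A, a * b = b * a) (hco : ¬ q ∣ Nat.card A) :
    ∃ Q, 2 ≤ Q ∧ ∀ x ∈ alg ι A, x ^ Q = x := by
  have hq : q.Prime := Fact.out
  have he : Nat.card A ≠ 0 := Nat.card_pos.ne'
  set f := Nat.totient (Nat.card A)
  have hf : 0 < f := Nat.totient_pos.2 (Nat.pos_of_ne_zero he)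
  refine ⟨q ^ f, (Nat.one_lt_pow hf.ne' hq.one_lt), fun x hx => ?_⟩
  cases subsingleton_or_nontrivial V
  · exact LinearMap.ext fun v => Subsingleton.elim _ _
  haveI : CharP (Module.End (ZMod q) V) q := charP_of_injective_algebraMap
    (FaithfulSMul.algebraMap_injective (ZMod q) (Module.End (ZMod q) V)) q
  induction hx using Algebra.adjoin_induction with
  | mem x hx =>
    obtain ⟨a, ha, rfl⟩ := hx
    have hmod : q ^ f ≡ 1 [MOD Nat.card A] := Nat.ModEq.pow_totient ((hq.coprime_iff_not_dvd).2 hco)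
    have : a ^ (q ^ f) = a := by
      conv_rhs => rw [← pow_one a]
      refine pow_eq_pow_iff_modEq.2 (hmod.of_dvd ?_)
      rw [← Subgroup.orderOf_mk a ha]; exact orderOf_dvd_natCard _
    rw [← map_pow, this]
  | algebraMap c => rw [← map_pow, ZMod.pow_card_pow]
  | add x y hx hy ihx ihy => rw [add_pow_char_pow_of_commute (p := q) (h := alg_comm hA hx hy), ihx, ihy]
  | mul x y hx hy ihx ihy => rw [(alg_comm hA hx hy).mul_pow, ihx, ihy]

/-- A minimal non-trivial idempotent, if there are non-injective elements. -/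
theorem exists_idem {A : Subgroup G} (hA : ∀ a ∈ A, ∀ b ∈ A, a * b = b * a) (hco : ¬ q ∣ Nat.card A)
    (h : ¬ FieldLike (alg ι A)) :
    ∃ e ∈ alg ι A, e * e = e ∧ e ≠ 0 ∧ e ≠ 1 ∧ ∀ f ∈ alg ι A, f * f = f → f * e = 0 ∨ f * e = e := by
  classical
  obtain ⟨Q, hQ, hfrob⟩ := exists_frob (ι := ι) hA hco
  simp only [FieldLike, not_forall] at h
  obtain ⟨a, ha, ha0, hinj⟩ := h
  haveI : Finite (Module.End (ZMod q) V) := Finite.of_injective _ DFunLike.coe_injective
  let I := {e : Module.End (ZMod q) V | e ∈ alg ι A ∧ e * e = e ∧ e ≠ 0 ∧ e ≠ 1}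
  have hIne : I.Nonempty := by
    obtain ⟨j, rfl⟩ : ∃ j, Q = j + 2 := ⟨Q - 2, by omega⟩
    have hap : a ^ (j + 1) * a = a := by rw [← pow_succ]; exact hfrob a ha
    refine ⟨a ^ (j + 1), pow_mem ha _, ?_, fun h0 => ha0 ?_, fun h1 => hinj fun v w e => ?_⟩
    · nth_rw 2 [pow_succ']
      rw [← mul_assoc, hap, pow_succ']
    · rw [← hap, h0, zero_mul]
    · have h2 : a ^ j * a = 1 := by rw [← pow_succ]; exact h1
      have := congrArg (a ^ j) e
      rwa [← Module.End.mul_apply, ← Module.End.mul_apply, h2, Module.End.one_apply, Module.End.one_apply] at this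
  obtain ⟨e, ⟨he, hee, he0, he1⟩, hmin⟩ := Set.exists_min_image I
    (fun e => Nat.card (LinearMap.range e)) (Set.toFinite I) hIne
  refine ⟨e, he, hee, he0, he1, fun f hf hff => ?_⟩
  by_cases h0 : f * e = 0
  · exact Or.inl h0
  right
  have hfe : Commute f e := alg_comm hA hf he
  have hidem : f * e * (f * e) = f * e := by
    rw [mul_assoc, ← mul_assoc e f, ← hfe.eq, mul_assoc f e e, hee, ← mul_assoc, hff]
  have hmem : f * e ∈ I := ⟨mul_mem hf he, hidem, h0, fun h1 => he1 (by
    calc e = f * e * e := by rw [h1, one_mul]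
      _ = 1 := by rw [mul_assoc, hee, h1])⟩
  have hle : LinearMap.range (f * e) ≤ LinearMap.range e := by
    rintro _ ⟨v, rfl⟩
    exact ⟨f v, by rw [← Module.End.mul_apply, ← hfe.eq]⟩
  have heq : LinearMap.range (f * e) = LinearMap.range e := by
    refine SetLike.coe_injective (Set.eq_of_subset_of_ncard_le hle ?_ (Set.toFinite _))
    rw [← Nat.card_coe_set_eq, ← Nat.card_coe_set_eq]
    exact hmin _ hmem
  refine LinearMap.ext fun v => ?_
  obtain ⟨w, hw⟩ : e v ∈ LinearMap.range (f * e) := heq ▸ ⟨v, rfl⟩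
  have h1 : (f * e) (e v) = e v := by rw [← hw, ← Module.End.mul_apply, hidem]
  rw [← h1, ← Module.End.mul_apply, mul_assoc, hee]

theorem conj_idem (g : G) {e : Module.End (ZMod q) V} (hee : e * e = e) :
    ι g * e * ι g⁻¹ * (ι g * e * ι g⁻¹) = ι g * e * ι g⁻¹ := by
  simp only [mul_assoc]
  rw [← mul_assoc (ι g⁻¹) (ι g), ← map_mul, inv_mul_cancel, map_one, one_mul, ← mul_assoc e e, hee]

/-- Normal abelian subgroups of transitive groups generate fields. -/
theorem fieldLike_of_transitive (htrans : ∀ v w : V, v ≠ 0 → w ≠ 0 → ∃ g : G, ι g v = w) {A : Subgroup G} [A.Normal]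
    (hA : ∀ a ∈ A, ∀ b ∈ A, a * b = b * a) (hco : ¬ q ∣ Nat.card A) : FieldLike (alg ι A) := by
  by_contra hnf
  obtain ⟨e, he, hee, he0, he1, hmin⟩ := exists_idem (ι := ι) hA hco hnf
  obtain ⟨v, hv⟩ : ∃ v, e v ≠ 0 := by
    by_contra h; push Not at h; exact he0 (LinearMap.ext h)
  obtain ⟨w, hw⟩ : ∃ w, w - e w ≠ 0 := by
    by_contra h; push Not at h; exact he1 (LinearMap.ext fun w => (sub_eq_zero.1 (h w)).symm)
  have hev : e (e v) = e v := by rw [← Module.End.mul_apply, hee]
  have hew : e (w - e w) = 0 := by rw [map_sub, ← Module.End.mul_apply, hee, sub_self]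
  have hne : e v + (w - e w) ≠ 0 := fun h => hv (by
    have := congrArg e h; rwa [map_add, hev, hew, add_zero, map_zero] at this)
  obtain ⟨g, hg⟩ := htrans _ _ hv hne
  set f := ι g * e * ι g⁻¹
  have hf : f ∈ alg ι A := conj_mem_alg (fun a ha => Subgroup.Normal.conj_mem inferInstance a ha g) he
  have hfu : f (e v + (w - e w)) = e v + (w - e w) := by
    rw [← hg]
    show ι g (e ((ι g⁻¹) (ι g (e v)))) = ι g (e v)
    rw [← Module.End.mul_apply (ι g⁻¹), ← map_mul, inv_mul_cancel, map_one, Module.End.one_apply, hev]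
  have hfe : Commute f e := alg_comm hA hf he
  have hefu : (f * e) (e v + (w - e w)) = e v := by
    rw [hfe.eq, Module.End.mul_apply, hfu, map_add, hev, hew, add_zero]
  rcases hmin f hf (conj_idem g hee) with h | h
  · rw [h] at hefu; exact hv hefu.symm
  · rw [h] at hefu
    -- the conjugate idempotent is then the old one
    have hg2 : ∀ a ∈ A, g⁻¹ * a * g⁻¹⁻¹ ∈ A := fun a ha => Subgroup.Normal.conj_mem inferInstance a ha _
    set f' := ι g⁻¹ * e * ι g⁻¹⁻¹
    have hf' : f' ∈ alg ι A := conj_mem_alg hg2 he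
    rcases hmin f' hf' (conj_idem _ hee) with h' | h'
    · refine he0 ?_
      have hcon := congrArg (fun φ => ι g * φ * ι g⁻¹) h'
      simp only [mul_zero, zero_mul, f', inv_inv, ← mul_assoc, ← map_mul, mul_inv_cancel, map_one, one_mul] at hcon
      rw [mul_assoc e, mul_assoc e, show ι g * e * ι g⁻¹ = f from rfl] at hcon
      rw [← h, hfe.eq, hcon]
    · have hef : e * f = f := by
        have hcon := congrArg (fun φ => ι g * φ * ι g⁻¹) h'
        simp only [f', inv_inv, ← mul_assoc, ← map_mul, mul_inv_cancel, map_one, one_mul] at hcon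
        rw [mul_assoc e, mul_assoc e] at hcon
        exact hcon
      have hfeq : f = e := by rw [← hef, ← hfe.eq, h]
      rw [hfeq, map_add, hev, hew, add_zero] at hfu
      exact hw (left_eq_add.1 hfu)

theorem irred_range_eq_top {x : G} (hx : IrredElem ι x) {e : Module.End (ZMod q) V} (hc : Commute (ι x) e)
    (he : e * e = e) (he0 : e ≠ 0) : e = 1 := by
  have htop : LinearMap.range e = ⊤ := by
    refine (hx _ ?_).resolve_left fun h => he0 (LinearMap.range_eq_bot.1 h)
    rintro _ ⟨v, rfl⟩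
    exact ⟨ι x v, by rw [← Module.End.mul_apply, ← hc.eq]; rfl⟩
  refine LinearMap.ext fun v => ?_
  obtain ⟨w, rfl⟩ : v ∈ LinearMap.range e := htop ▸ Submodule.mem_top
  rw [Module.End.one_apply, ← Module.End.mul_apply, he]

/-- An abelian group normalised by an irreducible element of large prime order generates a field. -/
theorem fieldLike_of_prime {x : G} {r : ℕ} (hr : r.Prime) (hn : Module.finrank (ZMod q) V < r)
    (hox : orderOf x = r) (hx : IrredElem ι x) {A : Subgroup G} (hnorm : ∀ a ∈ A, x * a * x⁻¹ ∈ A)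
    (hA : ∀ a ∈ A, ∀ b ∈ A, a * b = b * a) (hco : ¬ q ∣ Nat.card A) : FieldLike (alg ι A) := by
  classical
  by_contra hnf
  obtain ⟨e, he, hee, he0, he1, hmin⟩ := exists_idem (ι := ι) hA hco hnf
  let c : ℕ → Module.End (ZMod q) V := fun i => ι (x ^ i) * e * ι (x ^ i)⁻¹
  have hpow : ∀ i : ℕ, ∀ a ∈ A, x ^ i * a * (x ^ i)⁻¹ ∈ A := by
    intro i
    induction i with
    | zero => intro a ha; simpa using ha
    | succ i ih =>
      intro a ha
      rw [pow_succ, show x ^ i * x * a * (x ^ i * x)⁻¹ = x ^ i * (x * a * x⁻¹) * (x ^ i)⁻¹ by group]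
      exact ih _ (hnorm a ha)
  have hc : ∀ i, c i ∈ alg ι A := fun i => conj_mem_alg (hpow i) he
  have hfix : ∀ d : ℕ, ¬ r ∣ d → c d ≠ e := by
    intro d hd heq
    refine he1 (irred_range_eq_top hx ?_ hee he0)
    obtain ⟨m, hm⟩ := exists_pow_eq_self_of_coprime (n := d) (x := x)
      (by rw [hox]; exact ((hr.coprime_iff_not_dvd).2 hd).symm)
    have hcomm : Commute (ι (x ^ d)) e := by
      rw [commute_iff_eq]
      conv_rhs => rw [← heq]
      show _ = ι (x ^ d) * e * ι (x ^ d)⁻¹ * ι (x ^ d)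
      rw [mul_assoc _ (ι (x ^ d)⁻¹), ← map_mul, inv_mul_cancel, map_one, mul_one]
    have := hcomm.pow_left m
    rwa [← map_pow, hm] at this
  -- distinct conjugates are orthogonal
  have horth : ∀ i j : Fin r, i ≠ j → c i * c j = 0 := by
    intro i j hij
    wlog hlt : (i : ℕ) < j generalizing i j
    · have := this j i hij.symm (by
        rcases Nat.lt_trichotomy (i : ℕ) j with h | h | h
        · exact absurd h hlt
        · exact absurd (Fin.ext h) hij
        · exact h)
      rwa [(alg_comm hA (hc j) (hc i)).eq] at this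
    have hd : c ((j : ℕ) - i) * e = 0 := by
      rcases hmin _ (hc ((j : ℕ) - i)) (conj_idem _ hee) with h | h
      · exact h
      exfalso
      -- the inverse power gives the other inclusion
      have hdlt : (j : ℕ) - i < r := lt_of_le_of_lt (Nat.sub_le _ _) j.2
      have hinv : x ^ (r - ((j : ℕ) - i)) = (x ^ ((j : ℕ) - i))⁻¹ := by
        rw [eq_inv_iff_mul_eq_one, ← pow_add, Nat.sub_add_cancel hdlt.le, ← hox, pow_orderOf_eq_one]
      set d := (j : ℕ) - i with hd
      rcases hmin _ (hc (r - d)) (conj_idem _ hee) with h' | h'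
      · refine he0 ?_
        have hcon := congrArg (fun φ => ι (x ^ d) * φ * ι (x ^ d)⁻¹) h'
        simp only [c, hinv, inv_inv, mul_zero, zero_mul, ← mul_assoc, ← map_mul, mul_inv_cancel, map_one,
          one_mul] at hcon
        rw [mul_assoc e, mul_assoc e] at hcon
        rw [← h, (alg_comm hA (hc d) he).eq]
        exact hcon
      · refine hfix d (fun hdvd => ?_) ?_
        · have := Nat.le_of_dvd (by omega) hdvd; omega
        · have hcon := congrArg (fun φ => ι (x ^ d) * φ * ι (x ^ d)⁻¹) h'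
          simp only [c, hinv, inv_inv, ← mul_assoc, ← map_mul, mul_inv_cancel, map_one, one_mul] at hcon
          rw [mul_assoc e, mul_assoc e] at hcon
          exact (hcon.symm.trans (alg_comm hA (hc d) he).eq.symm).trans h
    have := congrArg (fun φ => ι (x ^ (i : ℕ)) * φ * ι (x ^ (i : ℕ))⁻¹) hd
    simp only [mul_zero, zero_mul] at this
    rw [← this, (alg_comm hA (hc i) (hc j)).eq]
    have hj : (j : ℕ) = i + ((j : ℕ) - i) := by omega
    show c (j : ℕ) * c (i : ℕ) = _
    simp only [c]
    conv_lhs => rw [hj, pow_add, _root_.mul_inv_rev, map_mul, map_mul]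
    simp only [mul_assoc]
    rw [← mul_assoc (ι (x ^ (i : ℕ))⁻¹) (ι (x ^ (i : ℕ))), ← map_mul, inv_mul_cancel, map_one, one_mul]
  have hne : ∀ i : Fin r, ∃ v, c i v ≠ 0 := by
    intro i
    by_contra h
    push Not at h
    refine he0 ?_
    have h0 : c i = 0 := LinearMap.ext h
    have := congrArg (fun φ => ι (x ^ (i : ℕ))⁻¹ * φ * ι (x ^ (i : ℕ))) h0
    simp only [c, mul_zero, zero_mul, mul_assoc] at this
    rw [← map_mul, inv_mul_cancel, map_one, mul_one, ← mul_assoc, ← map_mul, inv_mul_cancel, map_one, one_mul]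
      at this
    exact this
  choose v hv using hne
  have hli : LinearIndependent (ZMod q) fun i : Fin r => c i (v i) := by
    rw [Fintype.linearIndependent_iff]
    intro g hg j
    have := congrArg (c j) hg
    rw [map_sum, map_zero, Finset.sum_eq_single j] at this
    · rw [map_smul, ← Module.End.mul_apply, conj_idem _ hee] at this
      exact (smul_eq_zero.1 this).resolve_right (hv j)
    · intro i _ hij
      rw [map_smul, ← Module.End.mul_apply, horth j i hij.symm]
      simp
    · simp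
  have := hli.fintype_card_le_finrank
  rw [Fintype.card_fin] at this
  omega

theorem exists_field {A : Subgroup G} [Nontrivial V] (hA : ∀ a ∈ A, ∀ b ∈ A, a * b = b * a)
    (hf : FieldLike (alg ι A)) : IsField (alg ι A) := by
  haveI : Finite (Module.End (ZMod q) V) := Finite.of_injective _ DFunLike.coe_injective
  letI : CommRing (alg ι A) := { (inferInstance : Ring (alg ι A)) with
    mul_comm := fun a b => Subtype.ext (alg_comm hA a.2 b.2) }
  haveI : Nontrivial (alg ι A) := ⟨⟨1, 0, fun e => one_ne_zero (congrArg Subtype.val e : (1 : Module.End (ZMod q) V) = 0)⟩⟩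
  haveI : NoZeroDivisors (alg ι A) := ⟨fun {a b} h => by
    by_contra hh
    push Not at hh
    refine hh.2 (Subtype.ext (LinearMap.ext fun v => hf a.1 a.2 (fun e => hh.1 (Subtype.ext e)) ?_))
    show a.1 (b.1 v) = a.1 0
    rw [map_zero]
    exact LinearMap.congr_fun (congrArg Subtype.val h) v⟩
  haveI : IsDomain (alg ι A) := NoZeroDivisors.to_isDomain _
  exact Finite.isDomain_to_isField _

theorem finrank_alg_le {A : Subgroup G} [Nontrivial V] (hf : FieldLike (alg ι A)) :
    Module.finrank (ZMod q) (alg ι A) ≤ Module.finrank (ZMod q) V := by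
  obtain ⟨w, hw⟩ := exists_ne (0 : V)
  refine LinearMap.finrank_le_finrank_of_injective
    (f := (LinearMap.applyₗ (R := ZMod q) w).comp (alg ι A).val.toLinearMap) ?_
  rw [injective_iff_map_eq_zero]
  intro a ha
  by_contra hne
  exact hw (hf a.1 a.2 (fun e => hne (Subtype.ext e)) ((show a.1 w = 0 from ha).trans (map_zero _).symm))

/-- An irreducible element of large prime order centralises the abelian groups it normalises. -/
theorem centralised_of_prime [Nontrivial V] (hι : Function.Injective ι) {x : G} {r : ℕ} (hr : r.Prime)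
    (hn : Module.finrank (ZMod q) V < r) (hox : orderOf x = r) (hx : IrredElem ι x) {A : Subgroup G}
    (hnorm : ∀ a ∈ A, x * a * x⁻¹ ∈ A) (hA : ∀ a ∈ A, ∀ b ∈ A, a * b = b * a) (hco : ¬ q ∣ Nat.card A) :
    ∀ a ∈ A, x * a = a * x := by
  classical
  have hf := fieldLike_of_prime hr hn hox hx hnorm hA hco
  haveI : Finite (Module.End (ZMod q) V) := Finite.of_injective _ DFunLike.coe_injective
  letI : Field (alg ι A) := (exists_field hA hf).toField
  have hinv : ι x⁻¹ * ι x = 1 := by rw [← map_mul, inv_mul_cancel, map_one]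
  let σ₀ : alg ι A →ₐ[ZMod q] alg ι A :=
    { toFun := fun a => ⟨ι x * a * ι x⁻¹, conj_mem_alg hnorm a.2⟩
      map_one' := Subtype.ext (by
        show ι x * 1 * ι x⁻¹ = 1
        rw [mul_one, ← map_mul, mul_inv_cancel, map_one])
      map_mul' := fun a b => Subtype.ext (by
        show ι x * (a.1 * b.1) * ι x⁻¹ = ι x * a.1 * ι x⁻¹ * (ι x * b.1 * ι x⁻¹)
        simp only [mul_assoc]; rw [← mul_assoc (ι x⁻¹) (ι x), hinv, one_mul])
      map_zero' := Subtype.ext (by show ι x * 0 * ι x⁻¹ = 0; rw [mul_zero, zero_mul])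
      map_add' := fun a b => Subtype.ext (by
        show ι x * (a.1 + b.1) * ι x⁻¹ = ι x * a.1 * ι x⁻¹ + ι x * b.1 * ι x⁻¹
        rw [mul_add, add_mul])
      commutes' := fun c => Subtype.ext (by
        show ι x * algebraMap (ZMod q) _ c * ι x⁻¹ = algebraMap (ZMod q) _ c
        rw [← Algebra.commutes c (ι x), mul_assoc, ← map_mul, mul_inv_cancel, map_one, mul_one]) }
  let σ : alg ι A ≃ₐ[ZMod q] alg ι A :=
    AlgEquiv.ofBijective σ₀ (Finite.injective_iff_bijective.1 σ₀.toRingHom.injective)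
  have hpow : ∀ (i : ℕ) (a : alg ι A), ((σ ^ i) a).1 = ι (x ^ i) * a.1 * ι (x ^ i)⁻¹ := by
    intro i
    induction i with
    | zero => intro a; simp
    | succ i ih =>
      intro a
      rw [pow_succ', AlgEquiv.mul_apply]
      show ι x * ((σ ^ i) a).1 * ι x⁻¹ = _
      rw [ih, pow_succ', _root_.mul_inv_rev, map_mul, map_mul]
      simp only [mul_assoc]
  have hσr : σ ^ r = 1 := AlgEquiv.ext fun a => Subtype.ext (by
    rw [hpow, ← hox, pow_orderOf_eq_one, inv_one, map_one, one_mul, mul_one]; rfl)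
  haveI : Fintype (alg ι A) := Fintype.ofFinite _
  have hcard : Fintype.card (alg ι A ≃ₐ[ZMod q] alg ι A) < r :=
    lt_of_le_of_lt (AlgEquiv.card_le.trans (finrank_alg_le hf)) hn
  have hσ : σ = 1 := by
    rcases hr.eq_one_or_self_of_dvd _ (orderOf_dvd_of_pow_eq_one hσr) with h | h
    · exact orderOf_eq_one_iff.1 h
    · exact absurd (h ▸ orderOf_le_card_univ) (by omega)
  intro a ha
  refine hι ?_
  have h0 := congrArg Subtype.val (DFunLike.congr_fun hσ (⟨ι a, mem_alg ha⟩ : alg ι A))
  have h1 : ι x * ι a * ι x⁻¹ = ι a := h0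
  rw [map_mul, map_mul]
  calc ι x * ι a = ι x * ι a * (ι x⁻¹ * ι x) := by rw [hinv, mul_one]
    _ = ι a * ι x := by rw [← mul_assoc, h1]

end Cfsg.Lib.Recog.SolvTrans
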