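import Cfsg.Agent.Lib.Recog.SolvTrans.Algebra
import Cfsg.Agent.Lib.PGroup.Basic

/-!
Groups of class two inside a linear group: the index of the centre is a square of a number bounded by the dimension.
A prime power element acting on such a group.
-/

set_option autoImplicit false
set_option linter.unusedSectionVars false
set_option linter.style.haveILetI false

namespace Cfsg.Lib.Recog.SolvTrans

open scoped commutatorElement

section abstract

variable {P : Type*} [Group P] [Finite P] {L : Type*} [Field L]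

theorem card_hom_le (E : Type*) [Group E] [Finite E] :
    Finite (E →* L) ∧ Nat.card (E →* L) ≤ Nat.card E := by
  classical
  haveI : Fintype E := Fintype.ofFinite E
  have hli : LinearIndependent L (fun f : E →* L => (f : E → L)) := linearIndependent_monoidHom E L
  haveI : Finite (E →* L) := hli.finite
  haveI : Fintype (E →* L) := Fintype.ofFinite _
  refine ⟨inferInstance, ?_⟩
  have h := hli.fintype_card_le_finrank
  rwa [Module.finrank_fintype_fun_eq_card, ← Nat.card_eq_fintype_card, ← Nat.card_eq_fintype_card] at h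

/-- The centre of a group of class two embedded in the units of a field has square index. -/
theorem square_index (hcl : ∀ g h : P, g * h * g⁻¹ * h⁻¹ ∈ Subgroup.center P)
    (χ : Subgroup.center P →* L) (hχ : Function.Injective χ) :
    ∃ i, (Subgroup.center P).index = i * i := by
  classical
  have hZ : ∀ g h k : P, k * (g * h * g⁻¹ * h⁻¹) = g * h * g⁻¹ * h⁻¹ * k :=
    fun g h k => Subgroup.mem_center_iff.1 (hcl g h) k
  obtain ⟨A, ⟨hZA, hAc⟩, hAmax⟩ : ∃ A : Subgroup P, (Subgroup.center P ≤ A ∧ ∀ a ∈ A, ∀ b ∈ A, a * b = b * a) ∧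
      ∀ B : Subgroup P, (Subgroup.center P ≤ B ∧ ∀ a ∈ B, ∀ b ∈ B, a * b = b * a) → A ≤ B → B ≤ A := by
    obtain ⟨A, hA⟩ := (Set.toFinite {B : Subgroup P | Subgroup.center P ≤ B ∧
      ∀ a ∈ B, ∀ b ∈ B, a * b = b * a}).exists_maximal
      ⟨Subgroup.center P, le_rfl, fun a _ b hb => Subgroup.mem_center_iff.1 hb a⟩
    exact ⟨A, hA.prop, fun B hB hAB => hA.le_of_ge hB hAB⟩
  have hCA : ∀ g : P, (∀ a ∈ A, g * a = a * g) → g ∈ A := by
    intro g hg
    have hS : ∀ a ∈ insert g (A : Set P), ∀ b ∈ insert g (A : Set P), a * b = b * a := by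
      rintro a (rfl | ha) b (rfl | hb)
      · rfl
      · exact hg b hb
      · exact (hg a ha).symm
      · exact hAc a ha b hb
    have hle : A ≤ Subgroup.closure (insert g (A : Set P)) :=
      fun a ha => Subgroup.subset_closure (Or.inr ha)
    refine hAmax _ ⟨hZA.trans hle, fun a ha b hb => ?_⟩ hle (Subgroup.subset_closure (Or.inl rfl))
    haveI := Subgroup.isMulCommutative_closure hS
    exact congrArg Subtype.val (mul_comm' (⟨a, ha⟩ : Subgroup.closure (insert g (A : Set P))) ⟨b, hb⟩)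
  haveI : A.Normal := ⟨fun a ha g => by
    have h : g * a * g⁻¹ = g * a * g⁻¹ * a⁻¹ * a := by group
    rw [h]; exact A.mul_mem (hZA (hcl g a)) ha⟩
  let B : P → (P →* L) := fun g =>
    { toFun := fun a => χ ⟨g * a * g⁻¹ * a⁻¹, hcl g a⟩
      map_one' := by
        rw [← map_one χ]; congr 1; exact Subtype.ext (by simp)
      map_mul' := fun a b => by
        rw [← map_mul]; congr 1
        refine Subtype.ext ?_
        show g * (a * b) * g⁻¹ * (a * b)⁻¹ = g * a * g⁻¹ * a⁻¹ * (g * b * g⁻¹ * b⁻¹)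
        calc g * (a * b) * g⁻¹ * (a * b)⁻¹
            = g * a * g⁻¹ * (g * b * g⁻¹ * b⁻¹) * a⁻¹ := by group
          _ = g * a * g⁻¹ * ((g * b * g⁻¹ * b⁻¹) * a⁻¹) := by group
          _ = g * a * g⁻¹ * (a⁻¹ * (g * b * g⁻¹ * b⁻¹)) := by rw [hZ]
          _ = _ := by group }
  -- equal characters give commuting quotients
  have hBinj : ∀ g h a : P, B g a = B h a → (g⁻¹ * h) * a = a * (g⁻¹ * h) := by
    intro g h a e
    have e2 : g * a * g⁻¹ * a⁻¹ = h * a * h⁻¹ * a⁻¹ := congrArg Subtype.val (hχ e)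
    have e3 : g * a * g⁻¹ = h * a * h⁻¹ := mul_right_cancel e2
    calc g⁻¹ * h * a = g⁻¹ * (h * a * h⁻¹) * h := by group
      _ = g⁻¹ * (g * a * g⁻¹) * h := by rw [e3]
      _ = _ := by group
  haveI : Finite (A →* L) := (card_hom_le _).1
  have hker1 : ∀ g : P, (Subgroup.center P).subgroupOf A ≤ ((B g).comp A.subtype).ker := by
    intro g a ha
    rw [MonoidHom.mem_ker]
    show χ _ = 1
    rw [← map_one χ]; congr 1
    refine Subtype.ext ?_
    show g * a.1 * g⁻¹ * (a.1)⁻¹ = 1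
    rw [show g * a.1 = a.1 * g from Subgroup.mem_center_iff.1 ha g]; group
  let f1 : P ⧸ A → (A ⧸ (Subgroup.center P).subgroupOf A →* L) := fun x =>
    QuotientGroup.lift _ ((B x.out).comp A.subtype) (hker1 _)
  have hf1 : Function.Injective f1 := by
    intro x y e
    rw [← QuotientGroup.out_eq' x, ← QuotientGroup.out_eq' y, QuotientGroup.eq]
    refine hCA _ fun a ha => hBinj _ _ a ?_
    exact DFunLike.congr_fun e (QuotientGroup.mk ⟨a, ha⟩)
  have hker2 : ∀ a : A, A ≤ (B a.1).ker := by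
    intro a b hb
    rw [MonoidHom.mem_ker]
    show χ _ = 1
    rw [← map_one χ]; congr 1
    refine Subtype.ext ?_
    show a.1 * b * (a.1)⁻¹ * b⁻¹ = 1
    rw [hAc a.1 a.2 b hb]; group
  let f2 : A ⧸ (Subgroup.center P).subgroupOf A → (P ⧸ A →* L) := fun x =>
    QuotientGroup.lift _ (B x.out.1) (hker2 _)
  have hf2 : Function.Injective f2 := by
    intro x y e
    rw [← QuotientGroup.out_eq' x, ← QuotientGroup.out_eq' y, QuotientGroup.eq, Subgroup.mem_subgroupOf,
      Subgroup.mem_center_iff]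
    intro g
    exact (hBinj _ _ g (DFunLike.congr_fun e (QuotientGroup.mk g))).symm
  haveI := (card_hom_le (L := L) (A ⧸ (Subgroup.center P).subgroupOf A)).1
  haveI := (card_hom_le (L := L) (P ⧸ A)).1
  have h1 := (Nat.card_le_card_of_injective f1 hf1).trans (card_hom_le _).2
  have h2 := (Nat.card_le_card_of_injective f2 hf2).trans (card_hom_le _).2
  refine ⟨A.index, ?_⟩
  rw [← Subgroup.relIndex_mul_index hZA]
  congr 1
  exact le_antisymm h2 h1

end abstract

variable {q : ℕ} [Fact q.Prime] {V : Type*} [AddCommGroup V] [Module (ZMod q) V] [Finite V]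
  {G : Type*} [Group G] [Finite G] {ι : G →* Module.End (ZMod q) V}

theorem inj_ι (g : G) : Function.Injective (ι g) := fun v w e => by
  have := congrArg (ι g⁻¹) e
  rwa [← Module.End.mul_apply, ← Module.End.mul_apply, ← map_mul, inv_mul_cancel, map_one] at this

/-- The centre of a subgroup, inside the ambient group. -/
abbrev ctr (P : Subgroup G) : Subgroup G := P ⊓ Subgroup.centralizer (P : Set G)

theorem ctr_comm {P : Subgroup G} {a : G} (ha : a ∈ ctr P) {b : G} (hb : b ∈ P) : a * b = b * a :=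
  ((Subgroup.mem_centralizer_iff.1 ha.2) b hb).symm

theorem ctr_eq_map (P : Subgroup G) : ctr P = (Subgroup.center P).map P.subtype := by
  ext a
  constructor
  · intro ha
    exact ⟨⟨a, ha.1⟩, Subgroup.mem_center_iff.2 fun b => Subtype.ext (ctr_comm ha b.2).symm, rfl⟩
  · rintro ⟨a, ha, rfl⟩
    exact ⟨a.2, Subgroup.mem_centralizer_iff.2 fun b hb =>
      congrArg Subtype.val (Subgroup.mem_center_iff.1 ha ⟨b, hb⟩)⟩

/-- Representatives of distinct cosets of the centre are independent. -/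
theorem indep_cosets [Nontrivial V] (hι : Function.Injective ι) {P : Subgroup G} (hf : FieldLike (alg ι (ctr P)))
    (hcl : ∀ g ∈ P, ∀ h ∈ P, g * h * g⁻¹ * h⁻¹ ∈ ctr P) :
    LinearIndependent (ZMod q) fun x : P ⧸ Subgroup.center P => ι (x.out : P).1 := by
  classical
  haveI : Fintype (P ⧸ Subgroup.center P) := Fintype.ofFinite _
  set t : P ⧸ Subgroup.center P → G := fun x => (x.out : P).1 with ht
  suffices H : ∀ m, ∀ S : Finset (P ⧸ Subgroup.center P), S.card ≤ m →
      ∀ a : P ⧸ Subgroup.center P → Module.End (ZMod q) V, (∀ k, a k ∈ alg ι (ctr P)) →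
      ∑ k ∈ S, a k * ι (t k) = 0 → ∀ k ∈ S, a k = 0 by
    rw [Fintype.linearIndependent_iff]
    intro g hg i
    have := H _ Finset.univ le_rfl (fun k => algebraMap (ZMod q) _ (g k))
      (fun k => Subalgebra.algebraMap_mem _ _) (by simpa [Algebra.smul_def] using hg) i (Finset.mem_univ _)
    exact (map_eq_zero_iff _ (FaithfulSMul.algebraMap_injective (ZMod q) _)).1 this
  intro m
  induction m with
  | zero =>
    intro S hS a _ _ k hk
    rw [Finset.card_eq_zero.1 (Nat.le_zero.1 hS)] at hk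
    simp at hk
  | succ m ih =>
    intro S hS a ha hsum i hi
    by_contra hai
    have key : ∀ j ∈ S, j ≠ i → a j = 0 := by
      intro j hj hji
      obtain ⟨u, hu, hne⟩ : ∃ u ∈ P, u * ((t i)⁻¹ * t j) ≠ (t i)⁻¹ * t j * u := by
        by_contra h
        push Not at h
        refine hji.symm ?_
        rw [← QuotientGroup.out_eq' i, ← QuotientGroup.out_eq' j, QuotientGroup.eq, Subgroup.mem_center_iff]
        exact fun b => Subtype.ext (h b.1 b.2)
      let κ : P ⧸ Subgroup.center P → Module.End (ZMod q) V := fun k => ι (u * t k * u⁻¹ * (t k)⁻¹)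
      have hκ : ∀ k, κ k ∈ alg ι (ctr P) := fun k => mem_alg (hcl u hu (t k) (k.out : P).2)
      have hκne : κ j - κ i ≠ 0 := by
        rw [sub_ne_zero]
        intro e
        set c := u * t i * u⁻¹ * (t i)⁻¹ with hc
        set c' := u * t j * u⁻¹ * (t j)⁻¹ with hc'
        have e2 : c' = c := hι e
        refine hne ?_
        calc u * ((t i)⁻¹ * t j) = (c * t i)⁻¹ * (c' * t j) * u := by rw [hc, hc']; group
          _ = (t i)⁻¹ * t j * u := by rw [e2]; group
      have hu' : ∀ k, ι u * (a k * ι (t k)) = a k * κ k * ι (t k) * ι u := by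
        intro k
        have hcu : Commute (ι u) (a k) := commute_alg (fun z hz => by
          rw [commute_iff_eq, ← map_mul, ← map_mul, ctr_comm hz hu]) (ha k)
        rw [← mul_assoc, hcu.eq, mul_assoc, mul_assoc, mul_assoc, ← map_mul, ← map_mul, ← map_mul]
        congr 2
        group
      have h2 : (∑ k ∈ S, a k * κ k * ι (t k)) * ι u = 0 := by
        rw [Finset.sum_mul, ← Finset.sum_congr rfl (fun k _ => hu' k), ← Finset.mul_sum, hsum, mul_zero]
      have h2' : ∑ k ∈ S, a k * κ k * ι (t k) = 0 := by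
        have := congrArg (fun φ => φ * ι u⁻¹) h2
        simpa only [zero_mul, mul_assoc _ (ι u), ← map_mul, mul_inv_cancel, map_one, mul_one] using this
      have h3 : ∑ k ∈ S.erase i, a k * (κ k - κ i) * ι (t k) = 0 := by
        rw [Finset.sum_erase _ (by rw [sub_self, mul_zero, zero_mul])]
        simp only [mul_sub, sub_mul, Finset.sum_sub_distrib, h2', zero_sub, neg_eq_zero]
        calc ∑ k ∈ S, a k * κ i * ι (t k) = κ i * ∑ k ∈ S, a k * ι (t k) := by
              rw [Finset.mul_sum]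
              refine Finset.sum_congr rfl fun k _ => ?_
              rw [← mul_assoc, (alg_comm (fun x hx y hy => ctr_comm hx hy.1) (hκ i) (ha k)).eq]
          _ = 0 := by rw [hsum, mul_zero]
      have h4 := ih (S.erase i) (by rw [Finset.card_erase_of_mem hi]; omega) _
        (fun k => mul_mem (ha k) (sub_mem (hκ k) (hκ i))) h3 j (Finset.mem_erase.2 ⟨hji, hj⟩)
      by_contra haj
      have hinj := (hf _ (ha j) haj).comp (hf _ (sub_mem (hκ j) (hκ i)) hκne)
      obtain ⟨w, hw⟩ := exists_ne (0 : V)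
      refine hw (hinj ?_)
      show (a j * (κ j - κ i)) w = (a j * (κ j - κ i)) 0
      rw [h4, LinearMap.zero_apply, LinearMap.zero_apply]
    rw [Finset.sum_eq_single i (fun j hj hji => by rw [key j hj hji, zero_mul]) (fun h => absurd hi h)] at hsum
    refine hai ?_
    have := congrArg (fun φ => φ * ι (t i)⁻¹) hsum
    simpa only [zero_mul, mul_assoc _ (ι (t i)), ← map_mul, mul_inv_cancel, map_one, mul_one] using this

theorem card_cosets_le [Nontrivial V] (hι : Function.Injective ι) {P : Subgroup G} (hf : FieldLike (alg ι (ctr P)))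
    (hcl : ∀ g ∈ P, ∀ h ∈ P, g * h * g⁻¹ * h⁻¹ ∈ ctr P) :
    (Subgroup.center P).index ≤ Module.finrank (ZMod q) V * Module.finrank (ZMod q) V := by
  haveI : Fintype (P ⧸ Subgroup.center P) := Fintype.ofFinite _
  have h := (indep_cosets hι hf hcl).fintype_card_le_finrank
  rwa [Module.finrank_linearMap, ← Nat.card_eq_fintype_card, ← Subgroup.index_eq_card] at h

theorem center_index [Nontrivial V] (hι : Function.Injective ι) {P : Subgroup G} {s : ℕ} [hs : Fact s.Prime]
    (hP : ∃ e, (Subgroup.center P).index = s ^ e) (hf : FieldLike (alg ι (ctr P)))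
    (hcl : ∀ g ∈ P, ∀ h ∈ P, g * h * g⁻¹ * h⁻¹ ∈ ctr P) (hna : ∃ g ∈ P, ∃ h ∈ P, g * h ≠ h * g) :
    ∃ m, 0 < m ∧ (Subgroup.center P).index = s ^ (2 * m) ∧ s ^ m ≤ Module.finrank (ZMod q) V := by
  haveI : Finite (Module.End (ZMod q) V) := Finite.of_injective _ DFunLike.coe_injective
  letI : Field (alg ι (ctr P)) := (exists_field (fun x hx y hy => ctr_comm hx hy.1) hf).toField
  have hmem : ∀ z : Subgroup.center P, ((z : P) : G) ∈ ctr P := fun z => by
    rw [ctr_eq_map]; exact ⟨z.1, z.2, rfl⟩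
  let χ : Subgroup.center P →* alg ι (ctr P) :=
    { toFun := fun z => ⟨ι (z.1 : P).1, mem_alg (hmem z)⟩
      map_one' := Subtype.ext (by simp)
      map_mul' := fun a b => Subtype.ext (by simp) }
  obtain ⟨i, hi⟩ := square_index (L := alg ι (ctr P)) (P := P) (fun g h => by
    have h1 := hcl g.1 g.2 h.1 h.2
    rw [ctr_eq_map] at h1
    obtain ⟨z, hz, hzeq⟩ := h1
    exact (Subtype.ext hzeq : z = g * h * g⁻¹ * h⁻¹) ▸ hz) χ
    (fun a b e => Subtype.ext (Subtype.ext (hι (congrArg Subtype.val e))))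
  obtain ⟨e, he⟩ := hP
  obtain ⟨m, -, hm⟩ := (Nat.dvd_prime_pow hs.out).1 (⟨i, by rw [← he, hi]⟩ : i ∣ s ^ e)
  have hidx : (Subgroup.center P).index = s ^ (2 * m) := by rw [hi, hm, ← pow_add, two_mul]
  refine ⟨m, Nat.pos_of_ne_zero ?_, hidx, ?_⟩
  · rintro rfl
    obtain ⟨g, hg, h, hh, hne⟩ := hna
    rw [mul_zero, pow_zero, Subgroup.index_eq_one] at hidx
    refine hne ?_
    have := Subgroup.mem_center_iff.1 (hidx ▸ Subgroup.mem_top (⟨h, hh⟩ : P)) ⟨g, hg⟩
    exact congrArg Subtype.val this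
  · have := card_cosets_le hι hf hcl
    rw [hi, hm] at this
    exact Nat.mul_self_le_mul_self_iff.1 this

/-- A prime power element whose lowest non-trivial power is irreducible, acting on a group of coprime order. -/
theorem structure_bound [Nontrivial V] (hι : Function.Injective ι) {y : G} {r k : ℕ} (hr : r.Prime)
    (hn : Module.finrank (ZMod q) V < r) (hoy : orderOf y = r ^ (k + 1)) (hirr : IrredElem ι (y ^ r ^ k))
    {s : ℕ} [hs : Fact s.Prime] (hsr : s ≠ r) (hsq : s ≠ q) {N : Subgroup G} (hN : IsPGroup s N)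
    (hnorm : ∀ a ∈ N, y * a * y⁻¹ ∈ N) (hnc : ∃ a ∈ N, y ^ r ^ k * a ≠ a * y ^ r ^ k) :
    ∃ m, 0 < m ∧ s ^ m ≤ Module.finrank (ZMod q) V ∧ r ^ (k + 1) ∣ s ^ (2 * m) - 1 := by
  classical
  set x := y ^ r ^ k with hxdef
  have hox : orderOf x = r := by
    rw [hxdef, orderOf_pow_of_dvd (pow_pos hr.pos k).ne' (by rw [hoy]; exact pow_dvd_pow r (by omega)), hoy,
      pow_succ, Nat.mul_div_cancel_left _ (pow_pos hr.pos k)]
  let I := {P : Subgroup G | P ≤ N ∧ (∀ a ∈ P, y * a * y⁻¹ ∈ P) ∧ ∃ a ∈ P, x * a ≠ a * x}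
  obtain ⟨P, ⟨hPN, hPy, hPnc⟩, hmin⟩ := Set.exists_min_image I (fun P => Nat.card P) (Set.toFinite I)
    ⟨N, le_rfl, hnorm, hnc⟩
  have hsub : ∀ Q : Subgroup G, Q ≤ P → (∀ a ∈ Q, y * a * y⁻¹ ∈ Q) → Q ≠ P → ∀ a ∈ Q, x * a = a * x := by
    intro Q hQP hQy hne a ha
    by_contra hc
    refine hne (Subgroup.eq_of_le_of_card_ge hQP ?_)
    exact hmin Q ⟨hQP.trans hPN, hQy, a, ha, hc⟩
  have hPp : IsPGroup s P := hN.to_le hPN
  have hpow : ∀ (i : ℕ), ∀ a ∈ P, y ^ i * a * (y ^ i)⁻¹ ∈ P := by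
    intro i
    induction i with
    | zero => intro a ha; simpa using ha
    | succ i ih =>
      intro a ha
      rw [pow_succ, show y ^ i * y * a * (y ^ i * y)⁻¹ = y ^ i * (y * a * y⁻¹) * (y ^ i)⁻¹ by group]
      exact ih _ (hPy a ha)
  have hxy : y * x = x * y := (Commute.self_pow y _).eq
  -- the fixed points
  let C : Subgroup G := P ⊓ Subgroup.centralizer {x}
  have hCmem : ∀ a, a ∈ C ↔ a ∈ P ∧ x * a = a * x := fun a => by
    simp only [C, Subgroup.mem_inf, Subgroup.mem_centralizer_singleton_iff, eq_comm]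
  have hCy : ∀ a ∈ C, y * a * y⁻¹ ∈ C := by
    intro a ha
    rw [hCmem] at ha ⊢
    refine ⟨hPy a ha.1, ?_⟩
    calc x * (y * a * y⁻¹) = x * y * a * y⁻¹ := by group
      _ = y * (x * a) * y⁻¹ := by rw [← hxy]; group
      _ = y * a * (x * y⁻¹) := by rw [ha.2]; group
      _ = y * a * y⁻¹ * x := by
        rw [show x * y⁻¹ = y⁻¹ * (y * x) * y⁻¹ by group, hxy]; group
  let S : Set G := {g | (∃ a ∈ P, ∃ b ∈ P, g = a * b * a⁻¹ * b⁻¹) ∨ ∃ a ∈ P, g = a ^ s}
  have hSP : S ⊆ P := by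
    rintro g (⟨a, ha, b, hb, rfl⟩ | ⟨a, ha, rfl⟩)
    · exact P.mul_mem (P.mul_mem (P.mul_mem ha hb) (P.inv_mem ha)) (P.inv_mem hb)
    · exact P.pow_mem ha s
  have hDy : ∀ a ∈ Subgroup.closure S, y * a * y⁻¹ ∈ Subgroup.closure S := by
    have : Subgroup.closure S ≤ (Subgroup.closure S).comap (MulAut.conj y).toMonoidHom := by
      rw [Subgroup.closure_le]
      rintro g (⟨a, ha, b, hb, rfl⟩ | ⟨a, ha, rfl⟩) <;> refine Subgroup.subset_closure ?_
      · exact Or.inl ⟨_, hPy a ha, _, hPy b hb, by simp; group⟩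
      · exact Or.inr ⟨_, hPy a ha, by simp [conj_pow]⟩
    exact fun a ha => this ha
  have hDne : Subgroup.closure S ≠ P := by
    intro e
    haveI : Nontrivial P := by
      obtain ⟨a, ha, hne⟩ := hPnc
      exact ⟨⟨a, ha⟩, 1, fun h => hne (by rw [show a = 1 from congrArg Subtype.val h, mul_one, one_mul])⟩
    have hle : P ≤ (frattini P).map P.subtype := by
      refine e.symm.le.trans ((Subgroup.closure_le _).2 ?_)
      rintro g (⟨a, ha, b, hb, rfl⟩ | ⟨a, ha, rfl⟩)
      · exact ⟨⁅(⟨a, ha⟩ : P), (⟨b, hb⟩ : P)⁆, Cfsg.Lib.PGroup.commutator_le_frattini hPp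
          (Subgroup.commutator_mem_commutator (Subgroup.mem_top _) (Subgroup.mem_top _)), rfl⟩
      · exact ⟨_, Cfsg.Lib.PGroup.pow_mem_frattini hPp (⟨a, ha⟩ : P), rfl⟩
    have htop : frattini P = ⊤ := by
      rw [eq_top_iff]
      intro a _
      obtain ⟨b, hb, hba⟩ := hle a.2
      exact (Subtype.ext hba : b = a) ▸ hb
    exact bot_ne_top (frattini_nongenerating (K := (⊥ : Subgroup P)) (by rw [htop, sup_top_eq]))
  have hD : ∀ g ∈ S, g ∈ C := fun g hg => (hCmem g).2 ⟨hSP hg,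
    hsub _ ((Subgroup.closure_le _).2 hSP) hDy hDne g (Subgroup.subset_closure hg)⟩
  have hxP : ∀ a ∈ P, x * a * x⁻¹ ∈ P := hpow _
  -- a displacement fixed by the element is trivial
  have hdisp : ∀ g ∈ P, x * (g⁻¹ * (x * g * x⁻¹)) = g⁻¹ * (x * g * x⁻¹) * x → x * g = g * x := by
    intro g hg hfix
    set z := g⁻¹ * (x * g * x⁻¹) with hz
    have hi : ∀ i : ℕ, x ^ i * g * (x ^ i)⁻¹ = g * z ^ i := by
      intro i
      induction i with
      | zero => simp
      | succ i ih =>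
        have hz' : x * z ^ i = z ^ i * x := (show Commute x z from hfix).pow_right i
        calc x ^ (i + 1) * g * (x ^ (i + 1))⁻¹ = x * (x ^ i * g * (x ^ i)⁻¹) * x⁻¹ := by
              rw [pow_succ']; group
          _ = x * g * x⁻¹ * (x * z ^ i * x⁻¹) := by rw [ih]; group
          _ = g * z * z ^ i := by rw [hz', mul_inv_cancel_right, hz]; group
          _ = g * z ^ (i + 1) := by rw [pow_succ', mul_assoc]
    have hzr : z ^ r = 1 := by
      have := hi r
      rwa [← hox, pow_orderOf_eq_one, one_mul, inv_one, mul_one, left_eq_mul, hox] at this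
    have hzP : z ∈ P := P.mul_mem (P.inv_mem hg) (hxP g hg)
    have hz1 : z = 1 := by
      obtain ⟨j, hj⟩ := (IsPGroup.iff_orderOf.1 hPp) ⟨z, hzP⟩
      rw [Subgroup.orderOf_mk] at hj
      rcases hr.eq_one_or_self_of_dvd _ (orderOf_dvd_of_pow_eq_one hzr) with h | h
      · exact orderOf_eq_one_iff.1 h
      · exfalso
        rw [hj] at h
        exact hsr (((Nat.prime_dvd_prime_iff_eq hr hs.out).1 (hr.dvd_of_dvd_pow (n := j) (dvd_of_eq h.symm))).symm)
    calc x * g = g * z * x := by rw [hz]; group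
      _ = g * x := by rw [hz1, mul_one]
  -- the fixed points are central
  let P0 : Subgroup G := P ⊓ Subgroup.centralizer (C : Set G)
  have hP0 : P0 = P := by
    by_contra hne
    have hP0y : ∀ a ∈ P0, y * a * y⁻¹ ∈ P0 := by
      intro a ha
      refine ⟨hPy a ha.1, Subgroup.mem_centralizer_iff.2 fun c hc => ?_⟩
      -- conjugation permutes the fixed points
      have : ∀ (i : ℕ), ∀ c ∈ C, y ^ i * c * (y ^ i)⁻¹ ∈ C := by
        intro i
        induction i with
        | zero => intro c hc; simpa using hc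
        | succ i ih =>
          intro c hc
          rw [pow_succ, show y ^ i * y * c * (y ^ i * y)⁻¹ = y ^ i * (y * c * y⁻¹) * (y ^ i)⁻¹ by group]
          exact ih _ (hCy c hc)
      have hc' := this (orderOf y - 1) c hc
      have hinv : y ^ (orderOf y - 1) = y⁻¹ := by
        rw [eq_inv_iff_mul_eq_one, ← pow_succ, Nat.sub_add_cancel (orderOf_pos y), pow_orderOf_eq_one]
      rw [hinv, inv_inv] at hc'
      have h1 := Subgroup.mem_centralizer_iff.1 ha.2 _ hc'
      calc c * (y * a * y⁻¹) = y * (y⁻¹ * c * y * a) * y⁻¹ := by group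
        _ = y * (a * (y⁻¹ * c * y)) * y⁻¹ := by rw [h1]
        _ = y * a * y⁻¹ * c := by group
    obtain ⟨g, hg, hgne⟩ := hPnc
    refine hgne (hdisp g hg (hsub P0 inf_le_left hP0y hne _ ⟨P.mul_mem (P.inv_mem hg) (hxP g hg),
      Subgroup.mem_centralizer_iff.2 fun c hc => ?_⟩))
    have hd := ((hCmem _).1 (hD _ (Or.inl ⟨g, hg, c, hc.1, rfl⟩))).2
    have hcx := ((hCmem c).1 hc).2
    have e1 : x * g * x⁻¹ * c * (x * g * x⁻¹)⁻¹ = g * c * g⁻¹ := by
      calc x * g * x⁻¹ * c * (x * g * x⁻¹)⁻¹ = x * g * x⁻¹ * (c * x) * g⁻¹ * x⁻¹ := by group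
        _ = x * (g * c * g⁻¹) * x⁻¹ := by rw [← hcx]; group
        _ = (x * (g * c * g⁻¹ * c⁻¹)) * (c * x⁻¹) := by group
        _ = g * c * g⁻¹ * c⁻¹ * (x * c) * x⁻¹ := by rw [hd]; group
        _ = g * c * g⁻¹ := by rw [hcx]; group
    calc c * (g⁻¹ * (x * g * x⁻¹)) = g⁻¹ * (g * c * g⁻¹) * (x * g * x⁻¹) := by group
      _ = g⁻¹ * (x * g * x⁻¹ * c * (x * g * x⁻¹)⁻¹) * (x * g * x⁻¹) := by rw [e1]
      _ = g⁻¹ * (x * g * x⁻¹) * c := by group
  have hCZ : C ≤ ctr P := fun c hc => ⟨hc.1, Subgroup.mem_centralizer_iff.2 fun g hg =>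
    ((Subgroup.mem_centralizer_iff.1 (hP0.symm.le hg).2) c hc).symm⟩
  have hco : ∀ Q : Subgroup G, Q ≤ P → ¬ q ∣ Nat.card Q := by
    intro Q hQ hdvd
    obtain ⟨j, hj⟩ := (hPp.to_le hQ).exists_card_eq
    rw [hj] at hdvd
    exact hsq ((Nat.prime_dvd_prime_iff_eq (Fact.out : q.Prime) hs.out).1
      ((Fact.out : q.Prime).dvd_of_dvd_pow hdvd)).symm
  have hZx : ∀ a ∈ ctr P, x * a * x⁻¹ ∈ ctr P := by
    intro a ha
    refine ⟨hxP a ha.1, Subgroup.mem_centralizer_iff.2 fun g hg => ?_⟩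
    have hg' : x⁻¹ * g * x ∈ P := by
      have := hpow (orderOf y * r ^ k - r ^ k) g hg
      have hinv : y ^ (orderOf y * r ^ k - r ^ k) = x⁻¹ := by
        rw [hxdef, eq_inv_iff_mul_eq_one, ← pow_add,
          Nat.sub_add_cancel (Nat.le_mul_of_pos_left _ (orderOf_pos y)), pow_mul, pow_orderOf_eq_one, one_pow]
      rwa [hinv, inv_inv] at this
    calc g * (x * a * x⁻¹) = x * (x⁻¹ * g * x * a) * x⁻¹ := by group
      _ = x * (a * (x⁻¹ * g * x)) * x⁻¹ := by rw [← ctr_comm ha hg']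
      _ = x * a * x⁻¹ * g := by group
  have hZab : ∀ a ∈ ctr P, ∀ b ∈ ctr P, a * b = b * a := fun a ha b hb => ctr_comm ha hb.1
  have hZC : ctr P ≤ C := fun a ha => (hCmem a).2 ⟨ha.1,
    centralised_of_prime hι hr hn hox hirr hZx hZab (hco _ inf_le_left) a ha⟩
  have hf : FieldLike (alg ι (ctr P)) := fieldLike_of_prime hr hn hox hirr hZx hZab (hco _ inf_le_left)
  have hcl : ∀ g ∈ P, ∀ h ∈ P, g * h * g⁻¹ * h⁻¹ ∈ ctr P :=
    fun g hg h hh => hCZ (hD _ (Or.inl ⟨g, hg, h, hh, rfl⟩))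
  have hna : ∃ g ∈ P, ∃ h ∈ P, g * h ≠ h * g := by
    by_contra h
    push Not at h
    obtain ⟨g, hg, hne⟩ := hPnc
    exact hne ((hCmem g).1 (hZC ⟨hg, Subgroup.mem_centralizer_iff.2 fun b hb => h b hb g hg⟩)).2
  obtain ⟨m, hm, hidx, hle⟩ := center_index hι (hPp.index _) hf hcl hna
  refine ⟨m, hm, hle, ?_⟩
  -- the cyclic group acts freely outside the centre
  have hZy : ∀ a ∈ ctr P, y * a * y⁻¹ ∈ ctr P := fun a ha => hCZ (hCy a (hZC ha))
  let H := Subgroup.zpowers y
  let T : Set G := {g | g ∈ P ∧ g ∉ ctr P}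
  have hT : ∀ (h : H) (g : T), h.1 * g.1 * h.1⁻¹ ∈ T := by
    intro h g
    obtain ⟨i, hi⟩ := (Submonoid.mem_powers_iff h.1 y).1 (mem_powers_iff_mem_zpowers.2 h.2)
    refine ⟨hi ▸ hpow i g.1 g.2.1, fun hc => g.2.2 ?_⟩
    obtain ⟨j, hj⟩ := (Submonoid.mem_powers_iff (h.1)⁻¹ y).1 (mem_powers_iff_mem_zpowers.2 (H.inv_mem h.2))
    have : ∀ (i : ℕ), ∀ a ∈ ctr P, y ^ i * a * (y ^ i)⁻¹ ∈ ctr P := by
      intro i
      induction i with
      | zero => intro a ha; simpa using ha
      | succ i ih =>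
        intro a ha
        rw [pow_succ, show y ^ i * y * a * (y ^ i * y)⁻¹ = y ^ i * (y * a * y⁻¹) * (y ^ i)⁻¹ by group]
        exact ih _ (hZy a ha)
    have := this j _ hc
    rw [hj] at this
    simpa [mul_assoc] using this
  letI act : MulAction H T :=
    { smul := fun h g => ⟨h.1 * g.1 * h.1⁻¹, hT h g⟩
      one_smul := fun g => Subtype.ext (show (1 : G) * g.1 * (1 : G)⁻¹ = g.1 by group)
      mul_smul := fun a b g => Subtype.ext (show a.1 * b.1 * g.1 * (a.1 * b.1)⁻¹ =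
        a.1 * (b.1 * g.1 * b.1⁻¹) * a.1⁻¹ by group) }
  have hfree : ∀ g : T, MulAction.stabilizer H g = ⊥ := by
    intro g
    rw [eq_bot_iff]
    intro h hh
    rw [MulAction.mem_stabilizer_iff] at hh
    have hcom : h.1 * g.1 = g.1 * h.1 := by
      have e : h.1 * g.1 * h.1⁻¹ = g.1 := congrArg Subtype.val hh
      calc h.1 * g.1 = h.1 * g.1 * h.1⁻¹ * h.1 := by group
        _ = g.1 * h.1 := by rw [e]
    obtain ⟨i, hi⟩ := (Submonoid.mem_powers_iff h.1 y).1 (mem_powers_iff_mem_zpowers.2 h.2)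
    by_contra hne
    have hnd : ¬ r ^ (k + 1) ∣ i := fun hd => hne (Subgroup.mem_bot.2 (Subtype.ext (by
      rw [← hi]; exact orderOf_dvd_iff_pow_eq_one.1 (hoy.symm ▸ hd))))
    -- a power of it is the irreducible element
    have hx' : x ∈ Subgroup.zpowers h.1 := by
      have hg : i.gcd (r ^ (k + 1)) ∣ r ^ k := by
        obtain ⟨j, hj, hje⟩ := (Nat.dvd_prime_pow hr).1 (Nat.gcd_dvd_right i (r ^ (k + 1)))
        have : j ≠ k + 1 := fun e => hnd (e ▸ hje ▸ Nat.gcd_dvd_left i _)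
        rw [hje]; exact pow_dvd_pow r (by omega)
      obtain ⟨c, hc⟩ := hg
      rw [hxdef, hc]
      refine Subgroup.mem_zpowers_iff.2 ⟨Nat.gcdA i (r ^ (k + 1)) * c, ?_⟩
      rw [← hi, ← zpow_natCast y i, ← zpow_mul, ← zpow_natCast y (i.gcd _ * c), Nat.cast_mul, Nat.gcd_eq_gcd_ab,
        add_mul, mul_assoc (i : ℤ), zpow_add, mul_assoc ((r ^ (k + 1) : ℕ) : ℤ), zpow_mul y ((r ^ (k + 1) : ℕ) : ℤ),
        zpow_natCast y (r ^ (k + 1)), ← hoy, pow_orderOf_eq_one, one_zpow, mul_one]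
    obtain ⟨j, hj⟩ := Subgroup.mem_zpowers_iff.1 hx'
    refine g.2.2 (hCZ ((hCmem _).2 ⟨g.2.1, ?_⟩))
    rw [← hj]
    exact ((show Commute h.1 g.1 from hcom).zpow_left j).eq
  have hdvd : Nat.card H ∣ Nat.card T := by
    rw [Nat.card_congr (MulAction.selfEquivOrbitsQuotientProd hfree), Nat.card_prod]
    exact dvd_mul_left _ _
  rw [Nat.card_zpowers, hoy] at hdvd
  have hcT : Nat.card T = Nat.card (ctr P) * (s ^ (2 * m) - 1) := by
    have hTd : T = (P : Set G) \ (ctr P : Set G) := rfl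
    rw [hTd, Nat.card_coe_set_eq, Set.ncard_diff (SetLike.coe_subset_coe.2 inf_le_left) (Set.toFinite _),
      ← Nat.card_coe_set_eq, ← Nat.card_coe_set_eq]
    have hcard : Nat.card (ctr P) = Nat.card (Subgroup.center P) := by
      rw [ctr_eq_map]; exact Subgroup.card_map_of_injective P.subtype_injective
    have := (Subgroup.center P).card_mul_index
    rw [hidx, ← hcard] at this
    rw [Nat.mul_sub, mul_one, this]
    rfl
  rw [hcT] at hdvd
  refine Nat.Coprime.dvd_of_dvd_mul_left ?_ hdvd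
  obtain ⟨j, hj⟩ := (hPp.to_le (inf_le_left : ctr P ≤ P)).exists_card_eq
  rw [hj]
  exact Nat.Coprime.pow _ _ ((Nat.coprime_primes hr hs.out).2 hsr.symm)

end Cfsg.Lib.Recog.SolvTrans
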