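import Cfsg.Agent.Lib.Recog.SolvTrans.Bound
import Cfsg.Agent.Lib.Core.Fitting
import Cfsg.Agent.Lib.Core.Layer

/-!
Solvable transitive linear groups: the steps used in the classification.
-/

set_option autoImplicit false
set_option linter.unusedSectionVars false
set_option linter.style.haveILetI false

namespace Cfsg.Lib.Recog.SolvTrans

variable {q : ℕ} [Fact q.Prime] {V : Type*} [AddCommGroup V] [Module (ZMod q) V] [Finite V] [Nontrivial V]
  {G : Type*} [Group G] [Finite G] {ι : G →* Module.End (ZMod q) V}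

/-- Transitivity on the non-zero vectors. -/
def Trans (ι : G →* Module.End (ZMod q) V) : Prop := ∀ v w : V, v ≠ 0 → w ≠ 0 → ∃ g : G, ι g v = w

/-- No abelian normal subgroup is irreducible. -/
def NotSL (ι : G →* Module.End (ZMod q) V) : Prop :=
  ∀ A : Subgroup G, A.Normal → (∀ a ∈ A, ∀ b ∈ A, a * b = b * a) →
    ∃ W : Submodule (ZMod q) V, (∀ a ∈ A, ∀ v ∈ W, ι a v ∈ W) ∧ W ≠ ⊥ ∧ W ≠ ⊤

theorem ctr_normal (F : Subgroup G) [F.Normal] : (ctr F).Normal :=
  ⟨fun a ha g => ⟨Subgroup.Normal.conj_mem inferInstance a ha.1 g, Subgroup.mem_centralizer_iff.2 fun b hb => by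
    have hb' : g⁻¹ * b * g ∈ F := by
      have := Subgroup.Normal.conj_mem (inferInstance : F.Normal) b hb g⁻¹
      rwa [inv_inv] at this
    calc b * (g * a * g⁻¹) = g * (g⁻¹ * b * g * a) * g⁻¹ := by group
      _ = g * (a * (g⁻¹ * b * g)) * g⁻¹ := by rw [← ctr_comm ha hb']
      _ = g * a * g⁻¹ * b := by group⟩⟩

theorem ctr_abelian (F : Subgroup G) : ∀ a ∈ ctr F, ∀ b ∈ ctr F, a * b = b * a :=
  fun _ ha _ hb => ctr_comm ha hb.1

theorem card_V : Nat.card V = q ^ Module.finrank (ZMod q) V := by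
  rw [Module.natCard_eq_pow_finrank (K := ZMod q), Nat.card_zmod]

theorem finrank_pos' : 0 < Module.finrank (ZMod q) V := Module.finrank_pos

theorem ι_inv_apply (g : G) (v : V) : ι g⁻¹ (ι g v) = v := by
  rw [← Module.End.mul_apply, ← map_mul, inv_mul_cancel, map_one, Module.End.one_apply]

/-- The number of non-zero vectors divides the order. -/
theorem dvd_card (htrans : Trans ι) : q ^ Module.finrank (ZMod q) V - 1 ∣ Nat.card G := by
  classical
  letI : MulAction G V :=
    { smul := fun g v => ι g v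
      one_smul := fun v => show ι 1 v = v by rw [map_one]; rfl
      mul_smul := fun g h v => show ι (g * h) v = ι g (ι h v) by rw [map_mul]; rfl }
  obtain ⟨v, hv⟩ := exists_ne (0 : V)
  have horb : MulAction.orbit G v = ({0} : Set V)ᶜ := by
    ext w
    simp only [MulAction.mem_orbit_iff, Set.mem_compl_iff, Set.mem_singleton_iff]
    refine ⟨?_, fun hw => htrans v w hv hw⟩
    rintro ⟨g, rfl⟩ h
    exact hv (inj_ι g (h.trans (map_zero _).symm))
  have : Nat.card (MulAction.orbit G v) = q ^ Module.finrank (ZMod q) V - 1 := by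
    rw [horb, Nat.card_coe_set_eq, Set.ncard_compl, Set.ncard_singleton, card_V (q := q)]
  rw [← this, Nat.card_congr (MulAction.orbitEquivQuotientStabilizer G v), ← Subgroup.index_eq_card]
  exact Subgroup.index_dvd_card _

theorem no_normal_qgroup (hι : Function.Injective ι) (htrans : Trans ι) (A : Subgroup G) [A.Normal]
    (hA : IsPGroup q A) : A = ⊥ := by
  classical
  letI : MulAction A V :=
    { smul := fun g v => ι g v
      one_smul := fun v => show ι 1 v = v by rw [map_one]; rfl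
      mul_smul := fun g h v => show ι (g.1 * h.1) v = ι g (ι h v) by rw [map_mul]; rfl }
  have hdvd : q ∣ Nat.card V := by
    rw [card_V (q := q)]; exact dvd_pow_self q (finrank_pos' (q := q) (V := V)).ne'
  obtain ⟨b, hb, hb0⟩ := hA.exists_fixed_point_of_prime_dvd_card_of_fixed_point V hdvd
    (show (0 : V) ∈ MulAction.fixedPoints A V from fun a => map_zero (ι a))
  rw [eq_bot_iff]
  intro a ha
  refine Subgroup.mem_bot.2 (hι ?_)
  rw [map_one]
  refine LinearMap.ext fun v => ?_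
  rcases eq_or_ne v 0 with rfl | hv
  · simp
  obtain ⟨g, rfl⟩ := htrans b v (Ne.symm hb0) hv
  have : ι (g⁻¹ * a * g) b = b :=
    hb ⟨_, by simpa using Subgroup.Normal.conj_mem (inferInstance : A.Normal) a ha g⁻¹⟩
  calc ι a (ι g b) = ι g (ι (g⁻¹ * a * g) b) := by
        rw [← Module.End.mul_apply, ← map_mul, ← Module.End.mul_apply, ← map_mul]; congr 2; group
    _ = ι g b := by rw [this]

theorem normal_coprime (hι : Function.Injective ι) (htrans : Trans ι) (A : Subgroup G) [A.Normal]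
    (hA : ∀ a ∈ A, ∀ b ∈ A, a * b = b * a) : ¬ q ∣ Nat.card A := by
  intro hdvd
  obtain ⟨a, ha⟩ := exists_prime_orderOf_dvd_card' q hdvd
  let B : Subgroup G :=
    { carrier := {g | g ∈ A ∧ g ^ q = 1}
      one_mem' := ⟨A.one_mem, one_pow q⟩
      mul_mem' := fun {g h} hg hh => ⟨A.mul_mem hg.1 hh.1, by
        rw [(show Commute g h from hA g hg.1 h hh.1).mul_pow, hg.2, hh.2, one_mul]⟩
      inv_mem' := fun {g} hg => ⟨A.inv_mem hg.1, by rw [inv_pow, hg.2, inv_one]⟩ }
  haveI : B.Normal := ⟨fun g hg x => ⟨Subgroup.Normal.conj_mem inferInstance g hg.1 x, by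
    rw [conj_pow, hg.2, mul_one, mul_inv_cancel]⟩⟩
  have hB := no_normal_qgroup hι htrans B (fun g => ⟨1, Subtype.ext (by simpa using g.2.2)⟩)
  have h1 : a.1 ∈ B := ⟨a.2, by rw [← Subgroup.coe_pow, ← ha, pow_orderOf_eq_one, Subgroup.coe_one]⟩
  rw [hB, Subgroup.mem_bot] at h1
  rw [show a = 1 from Subtype.ext h1, orderOf_one] at ha
  exact (Fact.out : q.Prime).one_lt.ne ha

/-- An element whose order is a primitive prime divisor is irreducible. -/
theorem irred_of_ppd (hι : Function.Injective ι) {x : G} {r : ℕ} (hr : r.Prime) (hox : orderOf x = r)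
    (hdvd : r ∣ q ^ Module.finrank (ZMod q) V - 1)
    (hppd : ∀ k, 0 < k → k < Module.finrank (ZMod q) V → ¬ r ∣ q ^ k - 1) : IrredElem ι x := by
  classical
  haveI : Fact r.Prime := ⟨hr⟩
  have hrq : r ≠ q := by
    rintro rfl
    have h1 : r ∣ r ^ Module.finrank (ZMod r) V := dvd_pow_self r finrank_pos'.ne'
    have h2 := Nat.dvd_sub h1 hdvd
    rw [Nat.sub_sub_self (Nat.one_le_pow _ _ hr.pos)] at h2
    exact hr.one_lt.ne' (Nat.dvd_one.1 h2)
  set F : Submodule (ZMod q) V := LinearMap.eqLocus (ι x) 1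
  have hFmem : ∀ v, v ∈ F ↔ ι x v = v := fun v => LinearMap.mem_eqLocus
  have hxr : (ι x) ^ r = 1 := by rw [← map_pow, ← hox, pow_orderOf_eq_one, map_one]
  have key : ∀ W : Submodule (ZMod q) V, (∀ v ∈ W, ι x v ∈ W) →
      r ∣ q ^ (Module.finrank (ZMod q) W - Module.finrank (ZMod q) ↥(W ⊓ F)) - 1 := by
    intro W hW
    haveI : Fintype W := Fintype.ofFinite W
    let f : Function.End W := fun v => ⟨ι x v.1, hW v.1 v.2⟩
    have hfi : ∀ (i : ℕ) (v : W), ((f ^ i) v).1 = (ι x ^ i) v.1 := by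
      intro i
      induction i with
      | zero => intro v; rfl
      | succ i ih =>
        intro v
        rw [pow_succ', pow_succ']
        exact congrArg (ι x) (ih v)
    have hf : f ^ r ^ 1 = 1 := by
      rw [pow_one]; exact funext fun v => Subtype.ext ((hfi r v).trans (by rw [hxr]; rfl))
    have h := Equiv.Perm.card_fixedPoints_modEq hf
    rw [← Nat.card_eq_fintype_card, ← Nat.card_eq_fintype_card] at h
    have hfix : Nat.card (Function.fixedPoints f) = Nat.card ↥(W ⊓ F) := Nat.card_congr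
      { toFun := fun v => ⟨v.1.1, v.1.2, (hFmem _).2 (congrArg Subtype.val v.2)⟩
        invFun := fun v => ⟨⟨v.1, v.2.1⟩, Subtype.ext ((hFmem _).1 v.2.2)⟩
        left_inv := fun v => rfl
        right_inv := fun v => rfl }
    have hcard : ∀ U : Submodule (ZMod q) V, Nat.card U = q ^ Module.finrank (ZMod q) U := fun U => by
      rw [Module.natCard_eq_pow_finrank (K := ZMod q) (V := U), Nat.card_zmod]
    rw [hfix, hcard W, hcard (W ⊓ F)] at h
    have hle : Module.finrank (ZMod q) ↥(W ⊓ F) ≤ Module.finrank (ZMod q) W :=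
      Submodule.finrank_mono inf_le_left
    have h' := (Nat.modEq_iff_dvd' (Nat.pow_le_pow_right (Fact.out : q.Prime).pos hle)).1 h.symm
    rw [← Nat.sub_add_cancel hle, pow_add, ← Nat.sub_one_mul] at h'
    exact (Nat.Coprime.dvd_mul_right (Nat.Coprime.pow_right _ ((Nat.coprime_primes hr Fact.out).2 hrq))).1 h'
  have hFtop : F ≠ ⊤ := by
    intro h
    have : x = 1 := hι (by
      rw [map_one]; exact LinearMap.ext fun v => (hFmem v).1 (h ▸ Submodule.mem_top))
    rw [this, orderOf_one] at hox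
    exact hr.one_lt.ne hox
  intro W hW
  by_contra hne
  push Not at hne
  have hWn : Module.finrank (ZMod q) W < Module.finrank (ZMod q) V := Submodule.finrank_lt hne.2
  -- all of the subspace is fixed
  have hWF : W ≤ F := by
    by_contra h
    have hlt : Module.finrank (ZMod q) ↥(W ⊓ F) < Module.finrank (ZMod q) W :=
      Submodule.finrank_lt_finrank_of_lt (lt_of_le_of_ne inf_le_left fun e => h (inf_eq_left.1 e))
    exact hppd _ (by omega) (by omega) (key W hW)
  have h1 : 0 < Module.finrank (ZMod q) F := by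
    refine lt_of_lt_of_le (Nat.pos_of_ne_zero fun h => hne.1 (Submodule.finrank_eq_zero.1 h))
      (Submodule.finrank_mono hWF)
  have h2 := key ⊤ (fun _ _ => Submodule.mem_top)
  rw [top_inf_eq, finrank_top] at h2
  have h3 : Module.finrank (ZMod q) F < Module.finrank (ZMod q) V := Submodule.finrank_lt hFtop
  exact hppd _ (by omega) (by omega) h2

/-- A primitive prime divisor exceeds the dimension. -/
theorem lt_of_ppd {r n : ℕ} (hr : r.Prime) (hn : 0 < n) (hdvd : r ∣ q ^ n - 1)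
    (hppd : ∀ k, 0 < k → k < n → ¬ r ∣ q ^ k - 1) : n < r ∧ (n ∣ r - 1) := by
  haveI : Fact r.Prime := ⟨hr⟩
  have hiff : ∀ k, r ∣ q ^ k - 1 ↔ (q : ZMod r) ^ k = 1 := by
    intro k
    rw [← ZMod.natCast_eq_zero_iff, Nat.cast_sub (Nat.one_le_pow _ _ (Fact.out : q.Prime).pos),
      Nat.cast_pow, Nat.cast_one, sub_eq_zero]
  have ho : orderOf (q : ZMod r) = n := (orderOf_eq_iff hn).2
    ⟨(hiff n).1 hdvd, fun k hk hk0 h => hppd k hk0 hk ((hiff k).2 h)⟩
  have hq0 : (q : ZMod r) ≠ 0 := fun h => by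
    have := (hiff n).1 hdvd
    rw [h, zero_pow hn.ne'] at this
    exact zero_ne_one this
  have hd : n ∣ r - 1 := ho ▸ ZMod.orderOf_dvd_card_sub_one hq0
  exact ⟨by have := Nat.le_of_dvd (by have := hr.two_le; omega) hd; have := hr.two_le; omega, hd⟩

theorem irred_of_finrank {A : Subgroup G} (hf : FieldLike (alg ι A))
    (hd : Module.finrank (ZMod q) (alg ι A) = Module.finrank (ZMod q) V) :
    ∀ W : Submodule (ZMod q) V, (∀ a ∈ A, ∀ v ∈ W, ι a v ∈ W) → W = ⊥ ∨ W = ⊤ := by
  intro W hW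
  rcases eq_or_ne W ⊥ with h | h
  · exact Or.inl h
  right
  obtain ⟨w, hw, hw0⟩ := (Submodule.ne_bot_iff W).1 h
  let f := (LinearMap.applyₗ (R := ZMod q) w).comp (alg ι A).val.toLinearMap
  have hinj : Function.Injective f := by
    rw [injective_iff_map_eq_zero]
    intro a ha
    by_contra hne
    exact hw0 (hf a.1 a.2 (fun e => hne (Subtype.ext e)) ((show a.1 w = 0 from ha).trans (map_zero _).symm))
  have hmem : ∀ φ ∈ alg ι A, ∀ v ∈ W, φ v ∈ W := by
    intro φ hφ
    induction hφ using Algebra.adjoin_induction with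
    | mem x hx => obtain ⟨a, ha, rfl⟩ := hx; exact hW a ha
    | algebraMap c => intro v hv; rw [Module.algebraMap_end_apply]; exact W.smul_mem c hv
    | add x y _ _ hx hy => intro v hv; exact W.add_mem (hx v hv) (hy v hv)
    | mul x y _ _ hx hy => intro v hv; exact hx _ (hy v hv)
  rw [eq_top_iff]
  intro v _
  obtain ⟨a, rfl⟩ := (LinearMap.injective_iff_surjective_of_finrank_eq_finrank hd).1 hinj v
  exact hmem a.1 a.2 w hw

theorem NotSL.finrank_lt (hns : NotSL ι) (hι : Function.Injective ι) (htrans : Trans ι) (A : Subgroup G)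
    [hA' : A.Normal] (hA : ∀ a ∈ A, ∀ b ∈ A, a * b = b * a) :
    FieldLike (alg ι A) ∧ Module.finrank (ZMod q) (alg ι A) < Module.finrank (ZMod q) V := by
  have hf := fieldLike_of_transitive htrans hA (normal_coprime hι htrans A hA)
  refine ⟨hf, lt_of_le_of_ne (finrank_alg_le hf) fun h => ?_⟩
  obtain ⟨W, hW, h1, h2⟩ := hns A hA' hA
  exact (irred_of_finrank hf h W hW).elim h1 h2

theorem NotSL.irred_not_mem (hns : NotSL ι) (A : Subgroup G) [hA' : A.Normal]
    (hA : ∀ a ∈ A, ∀ b ∈ A, a * b = b * a) {x : G} (hx : IrredElem ι x) : x ∉ A := fun hxA => by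
  obtain ⟨W, hW, h1, h2⟩ := hns A hA' hA
  exact (hx W (hW x hxA)).elim h1 h2

/-- An element centralising every core lies in the centre of the Fitting subgroup. -/
theorem mem_ctr_fitting [Group.IsSolvable G] {x : G}
    (h : ∀ p : ℕ, p.Prime → ∀ a ∈ Cfsg.pCore p G, x * a = a * x) : x ∈ ctr (Cfsg.fittingSubgroup G) := by
  have hc : x ∈ Subgroup.centralizer (Cfsg.fittingSubgroup G : Set G) := by
    have hle : Cfsg.fittingSubgroup G ≤ Subgroup.centralizer {x} := by
      rw [Cfsg.Lib.Core.fittingSubgroup_eq_iSup_pCore]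
      exact iSup_le fun p a ha => Subgroup.mem_centralizer_singleton_iff.2 (h p.1 p.2 a ha).symm
    exact Subgroup.mem_centralizer_iff.2 fun a ha => Subgroup.mem_centralizer_singleton_iff.1 (hle ha)
  exact ⟨Cfsg.Lib.Core.centralizer_fitting_le_of_isSolvable hc, hc⟩

/-- A prime power element for a primitive prime divisor forces a small dimension. -/
theorem ppd_step [Group.IsSolvable G] (hι : Function.Injective ι) (htrans : Trans ι) (hns : NotSL ι)
    (hn3 : 3 ≤ Module.finrank (ZMod q) V) {r k : ℕ} (hr : r.Prime) (hdvd : r ∣ q ^ Module.finrank (ZMod q) V - 1)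
    (hppd : ∀ i, 0 < i → i < Module.finrank (ZMod q) V → ¬ r ∣ q ^ i - 1) {y : G} (hy : orderOf y = r ^ (k + 1)) :
    k = 0 ∧ r = Module.finrank (ZMod q) V + 1 ∧ ∃ m, Module.finrank (ZMod q) V = 2 ^ m ∧ q ≠ 2 := by
  classical
  haveI : Fact r.Prime := ⟨hr⟩
  obtain ⟨hnr, -⟩ := lt_of_ppd hr finrank_pos' hdvd hppd
  have hox : orderOf (y ^ r ^ k) = r := by
    rw [orderOf_pow_of_dvd (pow_pos hr.pos k).ne' (by rw [hy]; exact pow_dvd_pow r (by omega)), hy,
      pow_succ, Nat.mul_div_cancel_left _ (pow_pos hr.pos k)]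
  have hirr := irred_of_ppd hι hr hox hdvd hppd
  -- the core for the prime itself is trivial
  have hOr : Cfsg.pCore r G = ⊥ := by
    by_contra hne
    haveI : Nontrivial (Cfsg.pCore r G) := (Subgroup.nontrivial_iff_ne_bot _).2 hne
    haveI := ctr_normal (Cfsg.pCore r G)
    haveI := (Cfsg.Lib.Core.pCore_isPGroup r G).center_nontrivial
    obtain ⟨z, hz⟩ := exists_ne (1 : Subgroup.center (Cfsg.pCore r G))
    have hzc : ((z.1 : Cfsg.pCore r G) : G) ∈ ctr (Cfsg.pCore r G) := by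
      rw [ctr_eq_map]; exact ⟨z.1, z.2, rfl⟩
    obtain ⟨j, hj⟩ := ((Cfsg.Lib.Core.pCore_isPGroup r G).to_le
      (inf_le_left : ctr (Cfsg.pCore r G) ≤ _)).exists_card_eq
    have hj0 : j ≠ 0 := by
      rintro rfl
      rw [pow_zero] at hj
      have hzc' := (Subgroup.card_eq_one.1 hj).le hzc
      exact hz (Subtype.ext (Subtype.ext (Subgroup.mem_bot.1 hzc')))
    obtain ⟨a, ha⟩ := exists_prime_orderOf_dvd_card' (G := ctr (Cfsg.pCore r G)) r
      (hj ▸ dvd_pow_self r hj0)
    exact hns.irred_not_mem _ (ctr_abelian _)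
      (irred_of_ppd hι hr (by rw [Subgroup.orderOf_coe]; exact ha) hdvd hppd) a.2
  obtain ⟨s, hs, a, ha, hne⟩ : ∃ s, s.Prime ∧ ∃ a ∈ Cfsg.pCore s G, y ^ r ^ k * a ≠ a * y ^ r ^ k := by
    by_contra h
    push Not at h
    haveI := Cfsg.Lib.Core.fittingSubgroup_normal' G
    haveI := ctr_normal (Cfsg.fittingSubgroup G)
    exact hns.irred_not_mem _ (ctr_abelian _) hirr (mem_ctr_fitting h)
  haveI : Fact s.Prime := ⟨hs⟩
  have hsr : s ≠ r := by
    rintro rfl
    rw [hOr, Subgroup.mem_bot] at ha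
    exact hne (by rw [ha, mul_one, one_mul])
  have hsq : s ≠ q := by
    rintro rfl
    rw [no_normal_qgroup hι htrans _ (Cfsg.Lib.Core.pCore_isPGroup s G), Subgroup.mem_bot] at ha
    exact hne (by rw [ha, mul_one, one_mul])
  obtain ⟨m, hm, hle, hdv⟩ := structure_bound hι hr hnr hy hirr hsr hsq
    (Cfsg.Lib.Core.pCore_isPGroup s G)
    (fun b hb => Subgroup.Normal.conj_mem inferInstance b hb y) ⟨a, ha, hne⟩
  have hs1 : 1 < s ^ m := Nat.one_lt_pow hm.ne' hs.one_lt
  have hsplit : s ^ (2 * m) - 1 = (s ^ m + 1) * (s ^ m - 1) := by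
    rw [← Nat.sq_sub_sq, one_pow, ← pow_mul, mul_comm]
  rw [hsplit] at hdv
  have hcop : Nat.Coprime (r ^ (k + 1)) (s ^ m - 1) :=
    Nat.Coprime.pow_left _ ((hr.coprime_iff_not_dvd).2 fun h => by
      have := Nat.le_of_dvd (by omega) h; omega)
  have h2 := Nat.le_of_dvd (by omega) (hcop.dvd_of_dvd_mul_right hdv)
  have h3 : r ≤ r ^ (k + 1) := Nat.le_self_pow (by omega) r
  have hk : k = 0 := by
    by_contra hk
    have : r * r ≤ r ^ (k + 1) := by rw [← sq]; exact Nat.pow_le_pow_right hr.pos (by omega)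
    have := hr.two_le
    nlinarith
  subst hk
  rw [zero_add, pow_one] at h2
  have hreq : r = Module.finrank (ZMod q) V + 1 := by omega
  have hsm : Module.finrank (ZMod q) V = s ^ m := by omega
  have hs2 : s = 2 := by
    by_contra h
    have hodd : Odd (s ^ m) := (hs.odd_of_ne_two h).pow
    obtain ⟨j, hj⟩ := hodd
    have : 2 ∣ r := ⟨j + 1, by omega⟩
    rcases (Nat.dvd_prime hr).1 this with e | e <;> omega
  subst hs2
  exact ⟨rfl, hreq, m, hsm, fun e => hsq e.symm⟩

/-- An elementary abelian normal subgroup inside a non-trivial normal subgroup. -/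
theorem exists_elem_abelian {Q : Type*} [Group Q] [Finite Q] [Group.IsSolvable Q] (T : Subgroup Q) [hT : T.Normal]
    (hne : T ≠ ⊥) :
    ∃ (E : Subgroup Q) (s : ℕ), E.Normal ∧ s.Prime ∧ E ≤ T ∧ E ≠ ⊥ ∧ (∀ a ∈ E, ∀ b ∈ E, a * b = b * a) ∧
      ∀ a ∈ E, a ^ s = 1 := by
  classical
  let I := {M : Subgroup Q | M.Normal ∧ M ≠ ⊥ ∧ M ≤ T}
  obtain ⟨M, ⟨hMn, hM0, hMT⟩, hmin⟩ := Set.exists_min_image I (fun M => Nat.card M) (Set.toFinite I)
    ⟨T, hT, hne, le_rfl⟩
  haveI := hMn
  have hlt : ⁅M, M⁆ < M := Group.IsSolvable.commutator_lt_of_ne_bot hM0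
  have hab : ∀ a ∈ M, ∀ b ∈ M, a * b = b * a := by
    have hbot : ⁅M, M⁆ = ⊥ := by
      by_contra h
      exact hlt.ne (Subgroup.eq_of_le_of_card_ge hlt.le (hmin _ ⟨inferInstance, h, hlt.le.trans hMT⟩))
    intro a ha b hb
    exact ((Subgroup.mem_centralizer_iff.1 (Subgroup.commutator_eq_bot_iff_le_centralizer.1 hbot hb)) a ha)
  obtain ⟨s, hs, hsd⟩ := Nat.exists_prime_and_dvd (n := Nat.card M) (by rw [Ne, Subgroup.card_eq_one]; exact hM0)
  haveI : Fact s.Prime := ⟨hs⟩
  obtain ⟨a, ha⟩ := exists_prime_orderOf_dvd_card' (G := M) s hsd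
  let E : Subgroup Q :=
    { carrier := {g | g ∈ M ∧ g ^ s = 1}
      one_mem' := ⟨M.one_mem, one_pow s⟩
      mul_mem' := fun {g h} hg hh => ⟨M.mul_mem hg.1 hh.1, by
        rw [(show Commute g h from hab g hg.1 h hh.1).mul_pow, hg.2, hh.2, one_mul]⟩
      inv_mem' := fun {g} hg => ⟨M.inv_mem hg.1, by rw [inv_pow, hg.2, inv_one]⟩ }
  refine ⟨E, s, ⟨fun g hg x => ⟨Subgroup.Normal.conj_mem inferInstance g hg.1 x, by
    rw [conj_pow, hg.2, mul_one, mul_inv_cancel]⟩⟩, hs, fun g hg => hMT hg.1, ?_,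
    fun g hg h hh => hab g hg.1 h hh.1, fun g hg => hg.2⟩
  intro h
  have h1 : a.1 ∈ E := ⟨a.2, by rw [← Subgroup.coe_pow, ← ha, pow_orderOf_eq_one, Subgroup.coe_one]⟩
  rw [h, Subgroup.mem_bot] at h1
  rw [show a = 1 from Subtype.ext h1, orderOf_one] at ha
  exact hs.one_lt.ne ha

/-- The class two step: a normal subgroup whose centre is prescribed. -/
theorem class_two [Group.IsSolvable G] (hι : Function.Injective ι) {Z L : Subgroup G} [Z.Normal] [L.Normal]
    (hZL : Z < L) (hZc : ∀ z ∈ Z, ∀ l ∈ L, z * l = l * z) (hf : FieldLike (alg ι Z))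
    (hmax : ∀ B : Subgroup G, B.Normal → B ≤ L → Z ≤ B → (∀ a ∈ B, ∀ b ∈ B, a * b = b * a) → B ≤ Z) :
    ∃ (N : Subgroup G) (s m : ℕ), N.Normal ∧ s.Prime ∧ Z < N ∧ N ≤ L ∧ s ∣ Nat.card Z ∧ ctr N = Z ∧
      (∀ g ∈ N, g ^ s ∈ Z) ∧ (∀ g ∈ N, ∀ h ∈ N, g * h * g⁻¹ * h⁻¹ ∈ Z) ∧ 0 < m ∧
      (Subgroup.center N).index = s ^ (2 * m) ∧ s ^ m ≤ Module.finrank (ZMod q) V := by
  classical
  set π := QuotientGroup.mk' Z
  haveI : (L.map π).Normal := Subgroup.Normal.map inferInstance _ (QuotientGroup.mk'_surjective Z)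
  have hT : L.map π ≠ ⊥ := by
    intro h
    refine hZL.not_ge fun l hl => ?_
    have := h ▸ Subgroup.mem_map_of_mem π hl
    rwa [Subgroup.mem_bot, QuotientGroup.mk'_apply, QuotientGroup.eq_one_iff] at this
  haveI : Group.IsSolvable (G ⧸ Z) := Group.isSolvable_of_surjective (QuotientGroup.mk'_surjective Z)
  obtain ⟨E, s, hEn, hs, hET, hE0, hEc, hEs⟩ := exists_elem_abelian (L.map π) hT
  haveI : Fact s.Prime := ⟨hs⟩
  haveI := hEn
  let N := E.comap π
  haveI hNn : N.Normal := Subgroup.Normal.comap hEn π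
  have hZN : Z ≤ N := fun z hz => by
    show π z ∈ E
    rw [QuotientGroup.mk'_apply, (QuotientGroup.eq_one_iff z).2 hz]; exact E.one_mem
  have hNL : N ≤ L := by
    intro g hg
    obtain ⟨l, hl, hle⟩ := hET (show π g ∈ E from hg)
    have h1 : l⁻¹ * g ∈ Z := QuotientGroup.eq.1 hle
    have := L.mul_mem hl (hZL.le h1)
    simpa using this
  have hlt : Z < N := by
    refine lt_of_le_of_ne hZN fun e => hE0 ?_
    rw [eq_bot_iff]
    intro a ha
    obtain ⟨g, rfl⟩ := QuotientGroup.mk'_surjective Z a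
    exact Subgroup.mem_bot.2 ((QuotientGroup.eq_one_iff g).2 (e.symm ▸ ha))
  have hpow : ∀ g ∈ N, g ^ s ∈ Z := fun g hg => (QuotientGroup.eq_one_iff _).1 (by
    have := hEs (π g) hg
    rwa [← map_pow] at this)
  have hcl : ∀ g ∈ N, ∀ h ∈ N, g * h * g⁻¹ * h⁻¹ ∈ Z := fun g hg h hh => (QuotientGroup.eq_one_iff _).1 (by
    show π (g * h * g⁻¹ * h⁻¹) = 1
    simp only [map_mul, map_inv]
    rw [hEc _ hg _ hh]; group)
  haveI := ctr_normal N
  have hctr : ctr N = Z := le_antisymm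
    (hmax _ inferInstance (inf_le_left.trans hNL)
      (fun z hz => ⟨hZN hz, Subgroup.mem_centralizer_iff.2 fun g hg => (hZc z hz g (hNL hg)).symm⟩)
      (ctr_abelian N))
    (fun z hz => ⟨hZN hz, Subgroup.mem_centralizer_iff.2 fun g hg => (hZc z hz g (hNL hg)).symm⟩)
  have hna : ∃ g ∈ N, ∃ h ∈ N, g * h ≠ h * g := by
    by_contra h
    push Not at h
    refine hlt.not_ge (hctr ▸ fun g hg => ⟨hg, Subgroup.mem_centralizer_iff.2 fun b hb => h b hb g hg⟩)
  have hquot : IsPGroup s (N ⧸ Subgroup.center N) := fun x => by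
    induction x using QuotientGroup.induction_on with
    | H g =>
      refine ⟨1, ?_⟩
      rw [pow_one, ← QuotientGroup.mk_pow, QuotientGroup.eq_one_iff, Subgroup.mem_center_iff]
      intro b
      exact Subtype.ext (hZc _ (hpow g g.2) b (hNL b.2)).symm
  obtain ⟨m, hm, hidx, hle⟩ := center_index hι (hquot.exists_card_eq.imp fun e he => by
    rw [Subgroup.index_eq_card]; exact he) (hctr.symm ▸ hf) (fun g hg h hh => hctr.symm ▸ hcl g hg h hh) hna
  refine ⟨N, s, m, hNn, hs, hlt, hNL, ?_, hctr, hpow, hcl, hm, hidx, hle⟩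
  obtain ⟨g, hg, h, hh, hne⟩ := hna
  set c := g * h * g⁻¹ * h⁻¹ with hc
  have hc1 : c ≠ 1 := fun e => hne (by
    calc g * h = c * (h * g) := by rw [hc]; group
      _ = h * g := by rw [e, one_mul])
  have hcs : c ^ s = 1 := by
    have hcg : Commute c g := hZc c (hcl g hg h hh) g (hNL hg)
    have h1 : (h * g * h⁻¹) ^ s = g ^ s := by
      rw [conj_pow]
      have := hZc _ (hpow g hg) h (hNL hh)
      rw [← this, mul_inv_cancel_right]
    have h2 : h * g * h⁻¹ = c⁻¹ * g := by rw [hc]; group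
    rw [h2, hcg.inv_left.mul_pow] at h1
    exact inv_eq_one.1 (inv_pow c s ▸ (mul_eq_right.1 h1))
  have := Subgroup.orderOf_dvd_natCard Z (hcl g hg h hh)
  rwa [orderOf_eq_prime hcs hc1] at this

end Cfsg.Lib.Recog.SolvTrans
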